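import Cfsg.Agent.Lib.SubfieldChev49.Extremal

/-!
Type B2 over the prime fields of two and three elements.
-/

set_option autoImplicit false
set_option linter.unusedSectionVars false
set_option linter.style.haveILetI false
set_option linter.unusedVariables false
set_option maxRecDepth 100000

namespace Cfsg.Agent.Lib.SubfieldChev49.B2

open Cfsg.Lie Cfsg.Agent.Lib.ChevStructure Cfsg.Agent.Lib.RootPairs.LongPair Cfsg.Agent.Lib.RootPairs.Main
open scoped MatrixGroups Matrix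

abbrev d0 : Rt chevB2 := ⟨0, by decide⟩
abbrev d2 : Rt chevB2 := ⟨2, by decide⟩
abbrev d3 : Rt chevB2 := ⟨3, by decide⟩
abbrev d4 : Rt chevB2 := ⟨4, by decide⟩
abbrev d5 : Rt chevB2 := ⟨5, by decide⟩
abbrev d6 : Rt chevB2 := ⟨6, by decide⟩
abbrev d7 : Rt chevB2 := ⟨7, by decide⟩

variable {C : Core chevB2}

theorem alpha_eq (R0 : RootCert C) : R0.α = d7 := Fin.ext rfl

theorem alpha_rev_eq (R0 : RootCert C) : R0.α.rev = d0 := by rw [alpha_eq R0]; rfl

variable (H : CommOK C) {F : Type*} [Field F]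
include H

theorem swap65 (t u : F) :
    C.X F d5 u * C.X F d6 t = C.X F d6 t * C.X F d5 u * C.X F d7 (2 * t * u) := by
  rw [H.comm_X d6 d5 (by decide) (by decide), show chevB2.commTerms d6.val d5.val = [(7, -2, 1, 1)] from by decide +kernel]
  simp [show C.XN F 7 = C.X F d7 from funext fun c => C.XN_fin F d7 c]

theorem swap45 (t u : F) :
    C.X F d5 u * C.X F d4 t = C.X F d4 t * C.X F d5 u * (C.X F d6 (-t * u) * C.X F d7 (t * u ^ 2)) := by
  rw [H.comm_X d4 d5 (by decide) (by decide),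
    show chevB2.commTerms d4.val d5.val = [(6, 1, 1, 1), (7, -1, 1, 2)] from by decide +kernel]
  simp [show C.XN F 7 = C.X F d7 from funext fun c => C.XN_fin F d7 c,
    show C.XN F 6 = C.X F d6 from funext fun c => C.XN_fin F d6 c]

theorem swap27 (t u : F) :
    C.X F d7 u * C.X F d2 t = C.X F d2 t * C.X F d7 u * (C.X F d6 (-t * u) * C.X F d4 (-t ^ 2 * u)) := by
  rw [H.comm_X d2 d7 (by decide) (by decide),
    show chevB2.commTerms d2.val d7.val = [(6, 1, 1, 1), (4, -1, 2, 1)] from by decide +kernel]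
  simp [show C.XN F 4 = C.X F d4 from funext fun c => C.XN_fin F d4 c,
    show C.XN F 6 = C.X F d6 from funext fun c => C.XN_fin F d6 c]

theorem swap62 (t u : F) :
    C.X F d2 u * C.X F d6 t = C.X F d6 t * C.X F d2 u * C.X F d4 (-2 * t * u) := by
  rw [H.comm_X d6 d2 (by decide) (by decide), show chevB2.commTerms d6.val d2.val = [(4, 2, 1, 1)] from by decide +kernel]
  simp [show C.XN F 4 = C.X F d4 from funext fun c => C.XN_fin F d4 c]

theorem swap36 (t u : F) :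
    C.X F d6 u * C.X F d3 t = C.X F d3 t * C.X F d6 u * (C.X F d5 (-t * u) * C.X F d7 (-t * u ^ 2)) := by
  rw [H.comm_X d3 d6 (by decide) (by decide),
    show chevB2.commTerms d3.val d6.val = [(5, 1, 1, 1), (7, 1, 1, 2)] from by decide +kernel]
  simp [show C.XN F 7 = C.X F d7 from funext fun c => C.XN_fin F d7 c,
    show C.XN F 5 = C.X F d5 from funext fun c => C.XN_fin F d5 c]

theorem swap06 (t u : F) :
    C.X F d6 u * C.X F d0 t = C.X F d0 t * C.X F d6 u * (C.X F d2 (t * u) * C.X F d4 (-t * u ^ 2)) := by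
  rw [H.comm_X d0 d6 (by decide) (by decide),
    show chevB2.commTerms d0.val d6.val = [(2, -1, 1, 1), (4, 1, 1, 2)] from by decide +kernel]
  simp [show C.XN F 2 = C.X F d2 from funext fun c => C.XN_fin F d2 c,
    show C.XN F 4 = C.X F d4 from funext fun c => C.XN_fin F d4 c]

theorem c46 (a b : F) : Commute (C.X F d4 a) (C.X F d6 b) :=
  (commute_nil H (by decide) (by decide) (by decide +kernel) b a).symm
theorem c47 (a b : F) : Commute (C.X F d4 a) (C.X F d7 b) :=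
  commute_nil H (by decide) (by decide) (by decide +kernel) a b
theorem c67 (a b : F) : Commute (C.X F d6 a) (C.X F d7 b) :=
  commute_nil H (by decide) (by decide) (by decide +kernel) a b
theorem c57 (a b : F) : Commute (C.X F d5 a) (C.X F d7 b) :=
  commute_nil H (by decide) (by decide) (by decide +kernel) a b
theorem c24 (a b : F) : Commute (C.X F d2 a) (C.X F d4 b) :=
  commute_nil H (by decide) (by decide) (by decide +kernel) a b
theorem c02 (a b : F) : Commute (C.X F d0 a) (C.X F d2 b) :=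
  commute_nil H (by decide) (by decide) (by decide +kernel) a b
theorem c04 (a b : F) : Commute (C.X F d0 a) (C.X F d4 b) :=
  commute_nil H (by decide) (by decide) (by decide +kernel) a b

omit H in
theorem csame (r : Rt chevB2) (a b : F) : Commute (C.X F r a) (C.X F r b) := by
  show _ = _; rw [C.X_add, C.X_add, add_comm]

variable (C) in
/-- An element of the Siegel root group. -/
def S (z a f : F) : GL chevB2.Idx F := C.X F d4 z * (C.X F d6 a * C.X F d7 f)

theorem S_mul (z a f z' a' f' : F) : S C z a f * S C z' a' f' = S C (z + z') (a + a') (f + f') := by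
  unfold S
  rw [← C.X_add, ← C.X_add, ← C.X_add]
  simp only [mul_assoc]
  congr 1
  rw [← mul_assoc (C.X F d7 f) (C.X F d4 z'), (c47 H z' f).symm.eq, mul_assoc (C.X F d4 z'),
    ← mul_assoc (C.X F d6 a) (C.X F d4 z'), (c46 H z' a).symm.eq, mul_assoc (C.X F d4 z')]
  congr 1
  congr 1
  rw [← mul_assoc (C.X F d7 f) (C.X F d6 a'), (c67 H a' f).symm.eq, mul_assoc (C.X F d6 a')]

omit H in
theorem S_zero : S C (0 : F) 0 0 = 1 := by simp [S, C.X_zero]

theorem S_inv (z a f : F) : (S C z a f)⁻¹ = S C (-z) (-a) (-f) :=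
  inv_eq_of_mul_eq_one_right (by rw [S_mul H, add_neg_cancel, add_neg_cancel, add_neg_cancel, S_zero])

omit H in
theorem S4 (z : F) : C.X F d4 z = S C z 0 0 := by simp [S, C.X_zero]
omit H in
theorem S6 (a : F) : C.X F d6 a = S C 0 a 0 := by simp [S, C.X_zero]
omit H in
theorem S7 (f : F) : C.X F d7 f = S C 0 0 f := by simp [S, C.X_zero]

theorem conj5 (t z a f : F) :
    C.X F d5 t * S C z a f * (C.X F d5 t)⁻¹ = S C z (a - z * t) (f + 2 * a * t - z * t ^ 2) := by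
  have h6 : ∀ a : F, C.X F d5 t * C.X F d6 a * (C.X F d5 t)⁻¹ = S C 0 a (2 * a * t) := fun a => by
    rw [swap65 H, mul_assoc (C.X F d6 a), (c57 H t _).eq, ← mul_assoc, mul_inv_cancel_right]
    simp [S, C.X_zero]
  have h7 : C.X F d5 t * C.X F d7 f * (C.X F d5 t)⁻¹ = S C 0 0 f := by
    rw [(c57 H t f).eq, mul_inv_cancel_right, S7]
  have h4 : C.X F d5 t * C.X F d4 z * (C.X F d5 t)⁻¹ = S C z (-(z * t)) (-(z * t ^ 2)) := by
    have e : C.X F d5 t * C.X F d4 z * (C.X F d5 t)⁻¹ =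
        C.X F d4 z * ((C.X F d5 t * C.X F d6 (-z * t) * (C.X F d5 t)⁻¹) *
          (C.X F d5 t * C.X F d7 (z * t ^ 2) * (C.X F d5 t)⁻¹)) := by
      rw [swap45 H]; group
    rw [e, h6, (c57 H t (z * t ^ 2)).eq, mul_inv_cancel_right, S4, S7, S_mul H, S_mul H]
    congr 1 <;> ring
  rw [show C.X F d5 t * S C z a f * (C.X F d5 t)⁻¹ = (C.X F d5 t * C.X F d4 z * (C.X F d5 t)⁻¹) *
    ((C.X F d5 t * C.X F d6 a * (C.X F d5 t)⁻¹) * (C.X F d5 t * C.X F d7 f * (C.X F d5 t)⁻¹)) by unfold S; group,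
    h4, h6, h7, S_mul H, S_mul H]
  congr 1 <;> ring

theorem conj2 (b z a f : F) :
    C.X F d2 b * S C z a f * (C.X F d2 b)⁻¹ = S C (z - 2 * a * b - b ^ 2 * f) (a + b * f) f := by
  have h6 : C.X F d2 b * C.X F d6 a * (C.X F d2 b)⁻¹ = S C (-2 * a * b) a 0 := by
    rw [swap62 H, mul_assoc (C.X F d6 a), (c24 H b _).eq, ← mul_assoc, mul_inv_cancel_right, S4, S6, S_mul H]
    simp
  have h4 : C.X F d2 b * C.X F d4 z * (C.X F d2 b)⁻¹ = S C z 0 0 := by
    rw [(c24 H b z).eq, mul_inv_cancel_right, S4]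
  have h7 : C.X F d2 b * C.X F d7 f * (C.X F d2 b)⁻¹ = S C (-(b ^ 2 * f)) (b * f) f := by
    rw [C.X_inv, mul_assoc, swap27 H]
    simp only [← mul_assoc]
    rw [C.X_add, add_neg_cancel, C.X_zero, one_mul,
      S7, S4, S6, S_mul H, S_mul H]
    congr 1 <;> ring
  rw [show C.X F d2 b * S C z a f * (C.X F d2 b)⁻¹ = (C.X F d2 b * C.X F d4 z * (C.X F d2 b)⁻¹) *
    ((C.X F d2 b * C.X F d6 a * (C.X F d2 b)⁻¹) * (C.X F d2 b * C.X F d7 f * (C.X F d2 b)⁻¹)) by unfold S; group,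
    h4, h6, h7, S_mul H, S_mul H]
  congr 1 <;> ring

theorem S_conj_S (z a f z' a' f' : F) : S C z a f * S C z' a' f' * (S C z a f)⁻¹ = S C z' a' f' := by
  rw [S_inv H, S_mul H, S_mul H]
  congr 1 <;> ring

theorem S_eq_one {z a f : F} (h : S C z a f = 1) : z = 0 ∧ a = 0 ∧ f = 0 := by
  have h5 := conj5 H 1 z a f
  rw [h, mul_one, mul_inv_cancel] at h5
  have e := S_mul H (-z) (-a) (-f) z (a - z * 1) (f + 2 * a * 1 - z * 1 ^ 2)
  rw [← h5, ← S_inv H, h, inv_one, one_mul] at e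
  simp only [S, neg_add_cancel, C.X_zero, one_mul] at e
  have h1 : C.X F d6 (-a + (a - z * 1)) = C.X F d7 (-(-f + (f + 2 * a * 1 - z * 1 ^ 2))) := by
    rw [← C.X_inv, ← mul_eq_one_iff_eq_inv]; exact e.symm
  have hz : z = 0 := by
    have := C.X_eq_X F h1 (by decide)
    linear_combination -this
  subst hz
  simp only [S, C.X_zero, one_mul] at h
  have h2 : C.X F d6 a = C.X F d7 (-f) := by rw [← C.X_inv, ← mul_eq_one_iff_eq_inv]; exact h
  have ha := C.X_eq_X F h2 (by decide)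
  subst ha
  rw [C.X_zero, one_mul] at h
  exact ⟨rfl, rfl, X_inj C (h.trans (C.X_zero F d7).symm)⟩

theorem S_inj {z a f z' a' f' : F} (h : S C z a f = S C z' a' f') : z = z' ∧ a = a' ∧ f = f' := by
  obtain ⟨h1, h2, h3⟩ := S_eq_one H (z := z + -z') (a := a + -a') (f := f + -f')
    (by rw [← S_mul H, ← S_inv H, h, mul_inv_cancel])
  exact ⟨by linear_combination h1, by linear_combination h2, by linear_combination h3⟩

/-- The action of the radical on the Siegel group. -/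
theorem exists_xi (R0 : RootCert C) {q : GL chevB2.Idx F} (hq : q ∈ R0.Q F) :
    ∃ ξ : F, ∀ z a : F, (∃ f, q * S C z 0 0 * q⁻¹ = S C z (ξ * z) f) ∧ q * S C 0 a 0 * q⁻¹ = S C 0 a (-2 * ξ * a) := by
  induction hq using Subgroup.closure_induction with
  | mem x hx =>
    obtain ⟨r, hr, t, rfl⟩ := hx
    have hr3 : r = d5 ∨ r = d6 ∨ r = d7 := by
      have key : ∀ r : Rt chevB2, 0 < pr chevB2 d7 r → r = d5 ∨ r = d6 ∨ r = d7 := by decide +kernel
      refine key r ?_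
      have : 0 < pr chevB2 R0.α r := hr
      rwa [alpha_eq R0] at this
    rcases hr3 with rfl | rfl | rfl
    · exact ⟨-t, fun z a => ⟨⟨-(z * t ^ 2), by rw [conj5 H]; simp [mul_comm]⟩, by rw [conj5 H]; congr 1 <;> ring⟩⟩
    · exact ⟨0, fun z a => ⟨⟨0, by rw [S6, S_conj_S H]; simp⟩, by rw [S6, S_conj_S H]; simp⟩⟩
    · exact ⟨0, fun z a => ⟨⟨0, by rw [S7, S_conj_S H]; simp⟩, by rw [S7, S_conj_S H]; simp⟩⟩
  | one => exact ⟨0, fun z a => ⟨⟨0, by simp⟩, by simp⟩⟩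
  | mul x y hx hy ihx ihy =>
    obtain ⟨ξ, hξ⟩ := ihx
    obtain ⟨ξ', hξ'⟩ := ihy
    have hfix : ∀ f : F, x * S C 0 0 f * x⁻¹ = S C 0 0 f := fun f => by
      rw [← S7, ← alpha_eq R0, (commute_alpha_rad R0 H hx f).eq, mul_inv_cancel_right]
    refine ⟨ξ + ξ', fun z a => ⟨?_, ?_⟩⟩
    · obtain ⟨f', hf'⟩ := (hξ' z a).1
      obtain ⟨f, hf⟩ := (hξ z a).1
      refine ⟨f + -2 * ξ * (ξ' * z) + f', ?_⟩
      rw [mul_inv_rev, show x * y * S C z 0 0 * (y⁻¹ * x⁻¹) = x * (y * S C z 0 0 * y⁻¹) * x⁻¹ by group, hf',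
        show S C z (ξ' * z) f' = S C z 0 0 * (S C 0 (ξ' * z) 0 * S C 0 0 f') by rw [S_mul H, S_mul H]; simp,
        show x * (S C z 0 0 * (S C 0 (ξ' * z) 0 * S C 0 0 f')) * x⁻¹ = (x * S C z 0 0 * x⁻¹) *
          ((x * S C 0 (ξ' * z) 0 * x⁻¹) * (x * S C 0 0 f' * x⁻¹)) by group,
        hf, (hξ z (ξ' * z)).2, hfix, S_mul H, S_mul H]
      congr 1 <;> ring
    · rw [mul_inv_rev, show x * y * S C 0 a 0 * (y⁻¹ * x⁻¹) = x * (y * S C 0 a 0 * y⁻¹) * x⁻¹ by group, (hξ' z a).2,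
        show S C 0 a (-2 * ξ' * a) = S C 0 a 0 * S C 0 0 (-2 * ξ' * a) by rw [S_mul H]; simp,
        show x * (S C 0 a 0 * S C 0 0 (-2 * ξ' * a)) * x⁻¹ = (x * S C 0 a 0 * x⁻¹) * (x * S C 0 0 (-2 * ξ' * a) * x⁻¹) by group,
        (hξ z a).2, hfix, S_mul H]
      congr 1 <;> ring
  | inv x hx ih =>
    obtain ⟨ξ, hξ⟩ := ih
    have hfix : ∀ f : F, x * S C 0 0 f * x⁻¹ = S C 0 0 f := fun f => by
      rw [← S7, ← alpha_eq R0, (commute_alpha_rad R0 H hx f).eq, mul_inv_cancel_right]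
    refine ⟨-ξ, fun z a => ⟨?_, ?_⟩⟩
    · obtain ⟨f, hf⟩ := (hξ z a).1
      refine ⟨-f - 2 * ξ ^ 2 * z, ?_⟩
      have e : x * S C z (-ξ * z) (-f - 2 * ξ ^ 2 * z) * x⁻¹ = S C z 0 0 := by
        rw [show S C z (-ξ * z) (-f - 2 * ξ ^ 2 * z) = S C z 0 0 * (S C 0 (-ξ * z) 0 * S C 0 0 (-f - 2 * ξ ^ 2 * z)) by
            rw [S_mul H, S_mul H]; simp,
          show x * (S C z 0 0 * (S C 0 (-ξ * z) 0 * S C 0 0 (-f - 2 * ξ ^ 2 * z))) * x⁻¹ = (x * S C z 0 0 * x⁻¹) *
            ((x * S C 0 (-ξ * z) 0 * x⁻¹) * (x * S C 0 0 (-f - 2 * ξ ^ 2 * z) * x⁻¹)) by group,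
          hf, (hξ z (-ξ * z)).2, hfix, S_mul H, S_mul H]
        congr 1 <;> ring
      conv_lhs => rw [← e]
      group
    · have e : x * S C 0 a (-2 * -ξ * a) * x⁻¹ = S C 0 a 0 := by
        rw [show S C 0 a (-2 * -ξ * a) = S C 0 a 0 * S C 0 0 (-2 * -ξ * a) by rw [S_mul H]; simp,
          show x * (S C 0 a 0 * S C 0 0 (-2 * -ξ * a)) * x⁻¹ = (x * S C 0 a 0 * x⁻¹) * (x * S C 0 0 (-2 * -ξ * a) * x⁻¹) by group,
          (hξ z a).2, hfix, S_mul H]
        congr 1 <;> ring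
      conv_lhs => rw [← e]
      group

theorem conj_rad (R0 : RootCert C) {q : GL chevB2.Idx F} (hq : q ∈ R0.Q F) {ξ : F}
    (hξ : ∀ z a : F, (∃ f, q * S C z 0 0 * q⁻¹ = S C z (ξ * z) f) ∧ q * S C 0 a 0 * q⁻¹ = S C 0 a (-2 * ξ * a))
    (z a f : F) : ∃ f', q * S C z a f * q⁻¹ = S C z (a + ξ * z) f' := by
  obtain ⟨f1, h1⟩ := (hξ z a).1
  refine ⟨f1 + (-2 * ξ * a + f), ?_⟩
  rw [show S C z a f = S C z 0 0 * (S C 0 a 0 * S C 0 0 f) by rw [S_mul H, S_mul H]; simp,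
    show q * (S C z 0 0 * (S C 0 a 0 * S C 0 0 f)) * q⁻¹ = (q * S C z 0 0 * q⁻¹) *
      ((q * S C 0 a 0 * q⁻¹) * (q * S C 0 0 f * q⁻¹)) by group,
    h1, (hξ z a).2, show q * S C 0 0 f * q⁻¹ = S C 0 0 f by
      rw [← S7, ← alpha_eq R0, (commute_alpha_rad R0 H hq f).eq, mul_inv_cancel_right],
    S_mul H, S_mul H]
  congr 1 <;> ring

section Arguments

variable {R0 : RootCert C} {M : Subgroup (GL chevB2.Idx F)} {A : Subfield F} {q : GL chevB2.Idx F} {c : F}

/-- Images of Siegel elements under the two reflections, in characteristic two. -/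
theorem P_conj_two (h2 : (2 : F) = 0) (i : Fin chevB2.rank) (r : Rt chevB2) (t : F) :
    C.P F i * C.X F r t * (C.P F i)⁻¹ = C.X F (C.w i r) t := by
  rw [C.P_X_conj]
  rcases C.η_one i r with h | h <;> rw [h]
  · simp
  · have : (-1 : F) = 1 := by linear_combination -h2
    simp [this]

omit H in
theorem w_facts : C.w ⟨0, by decide⟩ d6 = d6 ∧ C.w ⟨0, by decide⟩ d7 = d4 ∧ C.w ⟨1, by decide⟩ d6 = d5 ∧
    C.w ⟨1, by decide⟩ d7 = d7 ∧ C.w ⟨1, by decide⟩ d5 = d6 := by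
  refine ⟨?_, ?_, ?_, ?_, ?_⟩ <;> refine Fin.ext ?_ <;> rw [← C.w_eq] <;> decide +kernel

theorem siegel_two (h2 : (2 : F) = 0) (B : Bad R0 M A q c) (hA : ∀ x ∈ A, x = 0 ∨ x = 1) {z a f : F}
    (h : S C z a f ∈ M) : z ∈ A := by
  have hn : ∀ x : F, -x = x := fun x => by linear_combination (-x) * h2
  have hD : S C 0 z z ∈ M := by
    have := mul_mem (inv_mem h) (mul_mem (mul_mem (B.one_mem d5) h) (inv_mem (B.one_mem d5)))
    rw [conj5 H, S_inv H, S_mul H] at this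
    convert this using 2
    · ring
    · linear_combination (z : F) * h2
    · linear_combination (z - a) * h2
  obtain ⟨w06, w07, w16, w17, w15⟩ := w_facts (C := C)
  have hP := fun i => P_mem C B.one_mem i
  have hD' : S C z z 0 ∈ M := by
    have := mul_mem (mul_mem (hP ⟨0, by decide⟩) hD) (inv_mem (hP ⟨0, by decide⟩))
    rw [show C.P F ⟨0, by decide⟩ * S C 0 z z * (C.P F ⟨0, by decide⟩)⁻¹ =
      (C.P F ⟨0, by decide⟩ * C.X F d4 0 * (C.P F ⟨0, by decide⟩)⁻¹) *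
      ((C.P F ⟨0, by decide⟩ * C.X F d6 z * (C.P F ⟨0, by decide⟩)⁻¹) *
      (C.P F ⟨0, by decide⟩ * C.X F d7 z * (C.P F ⟨0, by decide⟩)⁻¹)) by unfold S; group,
      P_conj_two H h2, P_conj_two H h2, P_conj_two H h2, w06, w07, C.X_zero, one_mul, S4, S6, S_mul H] at this
    simpa using this
  have hY : C.X F d5 z * C.X F d7 z ∈ M := by
    have := mul_mem (mul_mem (hP ⟨1, by decide⟩) hD) (inv_mem (hP ⟨1, by decide⟩))
    rw [show C.P F ⟨1, by decide⟩ * S C 0 z z * (C.P F ⟨1, by decide⟩)⁻¹ =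
      (C.P F ⟨1, by decide⟩ * C.X F d4 0 * (C.P F ⟨1, by decide⟩)⁻¹) *
      ((C.P F ⟨1, by decide⟩ * C.X F d6 z * (C.P F ⟨1, by decide⟩)⁻¹) *
      (C.P F ⟨1, by decide⟩ * C.X F d7 z * (C.P F ⟨1, by decide⟩)⁻¹)) by unfold S; group,
      P_conj_two H h2, P_conj_two H h2, P_conj_two H h2, w16, w17, C.X_zero, one_mul] at this
    exact this
  have hconjY : ∀ x y w : F, C.X F d5 z * C.X F d7 z * S C x y w * (C.X F d5 z * C.X F d7 z)⁻¹ =
      S C x (y - x * z) (w + 2 * y * z - x * z ^ 2) := fun x y w => by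
    rw [mul_inv_rev, show C.X F d5 z * C.X F d7 z * S C x y w * ((C.X F d7 z)⁻¹ * (C.X F d5 z)⁻¹) =
      C.X F d5 z * (C.X F d7 z * S C x y w * (C.X F d7 z)⁻¹) * (C.X F d5 z)⁻¹ by group,
      S7 z, S_conj_S H, conj5 H]
  have h1 : S C 0 z (z ^ 2) ∈ M := by
    have h4 : S C 1 0 0 ∈ M := by rw [← S4]; exact B.one_mem d4
    have := mul_mem (inv_mem h4) (mul_mem (mul_mem hY h4) (inv_mem hY))
    rw [hconjY, S_inv H, S_mul H] at this
    convert this using 2
    · ring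
    · linear_combination z * h2
    · linear_combination (z ^ 2) * h2
  have hi : z + z ^ 2 ∈ A := B.of_mem _ (by
    have := mul_mem hD h1
    rw [S_mul H, show z + z = 0 by linear_combination z * h2, add_zero, ← S7, ← alpha_eq R0] at this
    exact this)
  rcases hA _ hi with h0 | h0
  · have : z * (z + 1) = 0 := by linear_combination h0
    rcases mul_eq_zero.mp this with e | e
    · rw [e]; exact A.zero_mem
    · rw [show z = 1 by linear_combination e - h2]; exact A.one_mem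
  · have h3 : S C 0 (z ^ 2) (z ^ 3) ∈ M := by
      have := mul_mem (inv_mem hD') (mul_mem (mul_mem hY hD') (inv_mem hY))
      rw [hconjY, S_inv H, S_mul H] at this
      convert this using 2
      · ring
      · linear_combination (z ^ 2) * h2
      · linear_combination (z ^ 3 - z ^ 2) * h2
    have hz2 : z ^ 2 = z + 1 := by linear_combination h0 - z * h2
    have hz3 : z ^ 3 = 1 := by linear_combination (z + 1) * hz2 + z * h2
    have h4 := mul_mem (mul_mem hD h3) (show S C 0 1 0 ∈ M by rw [← S6]; exact B.one_mem d6)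
    rw [S_mul H, S_mul H, hz2, hz3, show z + (z + 1) + 1 = 0 by linear_combination (z + 1) * h2, add_zero, add_zero,
      add_zero, ← S7, ← alpha_eq R0] at h4
    have := sub_mem (B.of_mem _ h4) A.one_mem
    rwa [add_sub_cancel_right] at this

theorem siegel_odd (h2 : (2 : F) ≠ 0) (B : Bad R0 M A q c) {z a f : F} (h : S C z a f ∈ M) :
    z ∈ A ∧ a ∈ A := by
  have hd : ∀ t : F, C.X F d5 t ∈ M → S C 0 (-z * t) (2 * a * t - z * t ^ 2) ∈ M := fun t ht => by
    have := mul_mem (inv_mem h) (mul_mem (mul_mem ht h) (inv_mem ht))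
    rw [conj5 H, S_inv H, S_mul H] at this
    convert this using 2 <;> ring
  have hD1 := hd 1 (B.one_mem d5)
  have hD2 := hd (-1) (by rw [← C.X_inv]; exact inv_mem (B.one_mem d5))
  have h7 : -(2 * z) ∈ A := B.of_mem _ (by
    have := mul_mem hD1 hD2
    rw [S_mul H, show -z * 1 + -z * -1 = (0 : F) by ring, add_zero, ← S7, ← alpha_eq R0] at this
    convert this using 2; ring)
  have h2A : (2 : F) ∈ A := ofNat_mem A 2
  have hz : z ∈ A := by
    have := mul_mem (inv_mem h2A) (neg_mem h7)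
    rwa [neg_neg, inv_mul_cancel_left₀ h2] at this
  refine ⟨hz, ?_⟩
  have h6 : S C 0 (-z * 1) 0 ∈ M := by rw [← S6]; exact B.mem_root d6 _ (by simpa using hz)
  have h8 := mul_mem (inv_mem h6) hD1
  rw [S_inv H, S_mul H] at h8
  simp only [neg_add_cancel, neg_zero, zero_add, add_zero] at h8
  rw [← S7, ← alpha_eq R0] at h8
  have := add_mem (B.of_mem _ h8) hz
  have e : 2 * a * 1 - z * 1 ^ 2 + z = 2 * a := by ring
  rw [e] at this
  have := mul_mem (inv_mem h2A) this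
  rwa [inv_mul_cancel_left₀ h2] at this

theorem pure_elements (B : Bad R0 M A q c) (hp : C.X F d6 1 ∈ conjBy M q) :
    S C (-c ^ 2) (-c) 0 ∈ conjBy M q := by
  have hy : C.X F d0 c ∈ conjBy M q := by
    have := B.y_mem
    rw [alpha_rev_eq R0] at this
    exact this
  have hZ : C.X F d2 c * C.X F d4 (-c) ∈ conjBy M q := by
    have := mul_mem (inv_mem hp) (mul_mem (mul_mem (inv_mem hy) hp) hy)
    rw [C.X_inv F d0 c, mul_assoc (C.X F d0 (-c)), swap06 H, ← mul_assoc (C.X F d0 (-c)),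
      ← mul_assoc (C.X F d0 (-c)), C.X_add, neg_add_cancel, C.X_zero, one_mul, inv_mul_cancel_left] at this
    simpa using this
  have hα : C.X F d7 1 ∈ conjBy M q := by rw [← alpha_eq R0]; exact (B.alpha_mem H).2 A.one_mem
  have e : C.X F d7 1 * (C.X F d2 c * C.X F d4 (-c)) * (C.X F d7 1)⁻¹ =
      (C.X F d2 c * C.X F d4 (-c)) * S C (-c ^ 2) (-c) 0 := by
    have e1 : C.X F d7 1 * C.X F d2 c * (C.X F d7 1)⁻¹ = C.X F d2 c * S C (-c ^ 2) (-c) 0 := by
      rw [swap27 H, S6, S4, S7, S_mul H, S_inv H, mul_assoc, mul_assoc, S_mul H, S_mul H]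
      congr 2 <;> ring
    rw [show C.X F d7 1 * (C.X F d2 c * C.X F d4 (-c)) * (C.X F d7 1)⁻¹ =
      (C.X F d7 1 * C.X F d2 c * (C.X F d7 1)⁻¹) * (C.X F d7 1 * C.X F d4 (-c) * (C.X F d7 1)⁻¹) by group,
      e1, ← (c47 H (-c) 1).eq, mul_inv_cancel_right, S4, mul_assoc, mul_assoc, S_mul H, S_mul H]
    congr 2 <;> ring
  have := mul_mem (inv_mem hZ) (mul_mem (mul_mem hα hZ) (inv_mem hα))
  rwa [e, inv_mul_cancel_left] at this

/-- Characteristic two. -/
theorem false_two (h2 : (2 : F) = 0) (B : Bad R0 M A q c) (hA : ∀ x ∈ A, x = 0 ∨ x = 1) : False := by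
  obtain ⟨ξ, hξ⟩ := exists_xi H R0 B.q_mem
  have hp : C.X F d6 1 ∈ conjBy M q := by
    rw [mem_conjBy, S6, (hξ 0 1).2, show -2 * ξ * 1 = (0 : F) by linear_combination (-ξ) * h2, ← S6]
    exact B.one_mem d6
  have hW := mem_conjBy.1 (pure_elements H B hp)
  obtain ⟨f, hf⟩ := conj_rad H R0 B.q_mem hξ (-c ^ 2) (-c) 0
  rw [hf] at hW
  apply B.c_not_mem
  rcases hA _ (siegel_two H h2 B hA hW) with h | h
  · rw [show c = 0 from (sq_eq_zero_iff).mp (neg_eq_zero.mp h)]; exact A.zero_mem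
  · have : (c + 1) ^ 2 = 0 := by linear_combination -h + c * h2
    rw [show c = -1 from by linear_combination (sq_eq_zero_iff).mp this]
    exact neg_mem A.one_mem

variable (C) in
/-- The unipotent group of the Jacobi group of the root 6. -/
def jacN (F : Type*) [Field F] : Subgroup (GL chevB2.Idx F) := C.US F {d2, d4, d6}

theorem exists_b {n : GL chevB2.Idx F} (hn : n ∈ jacN C F) :
    ∃ b : F, ∀ z a f : F, n * S C z a f * n⁻¹ = S C (z - 2 * a * b - b ^ 2 * f) (a + b * f) f := by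
  induction hn using Subgroup.closure_induction with
  | mem x hx =>
    obtain ⟨r, hr, t, rfl⟩ := hx
    rcases hr with rfl | rfl | rfl
    · exact ⟨t, fun z a f => conj2 H t z a f⟩
    · exact ⟨0, fun z a f => by rw [S4, S_conj_S H]; simp⟩
    · exact ⟨0, fun z a f => by rw [S6, S_conj_S H]; simp⟩
  | one => exact ⟨0, fun z a f => by simp⟩
  | mul x y _ _ ihx ihy =>
    obtain ⟨b, hb⟩ := ihx
    obtain ⟨b', hb'⟩ := ihy
    refine ⟨b + b', fun z a f => ?_⟩
    rw [mul_inv_rev, show x * y * S C z a f * (y⁻¹ * x⁻¹) = x * (y * S C z a f * y⁻¹) * x⁻¹ by group, hb', hb]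
    congr 1 <;> ring
  | inv x _ ih =>
    obtain ⟨b, hb⟩ := ih
    refine ⟨-b, fun z a f => ?_⟩
    have e : x * S C (z - 2 * a * -b - (-b) ^ 2 * f) (a + -b * f) f * x⁻¹ = S C z a f := by
      rw [hb]; congr 1 <;> ring
    conv_lhs => rw [← e]
    group

theorem phi_normalizes (g : Matrix.SpecialLinearGroup (Fin 2) F) {n : GL chevB2.Idx F} (hn : n ∈ jacN C F) :
    phi C F d7 g * n * (phi C F d7 g)⁻¹ ∈ jacN C F := by
  let T : Submonoid (Matrix.SpecialLinearGroup (Fin 2) F) :=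
    { carrier := {g | ∀ n ∈ jacN C F, phi C F d7 g * n * (phi C F d7 g)⁻¹ ∈ jacN C F}
      one_mem' := fun n hn => by simpa using hn
      mul_mem' := fun {a b} ha hb n hn => by
        rw [map_mul, show phi C F d7 a * phi C F d7 b * n * (phi C F d7 a * phi C F d7 b)⁻¹ =
          phi C F d7 a * (phi C F d7 b * n * (phi C F d7 b)⁻¹) * (phi C F d7 a)⁻¹ by group]
        exact ha _ (hb n hn) }
  have hgen : ∀ g : GL chevB2.Idx F, (∀ s ∈ ({d2, d4, d6} : Set (Rt chevB2)), ∀ t, g * C.X F s t * g⁻¹ ∈ jacN C F) →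
      ∀ n ∈ jacN C F, g * n * g⁻¹ ∈ jacN C F := by
    intro g hg n hn
    have hle : jacN C F ≤ (jacN C F).comap (MulAut.conj g).toMonoidHom := by
      refine (Subgroup.closure_le _).2 ?_
      rintro x ⟨s, hs, t, rfl⟩
      exact hg s hs t
    exact hle hn
  have m2 : ∀ t : F, C.X F d2 t ∈ jacN C F := fun t => C.X_mem_US F (by simp) t
  have m4 : ∀ t : F, C.X F d4 t ∈ jacN C F := fun t => C.X_mem_US F (by simp) t
  have m6 : ∀ t : F, C.X F d6 t ∈ jacN C F := fun t => C.X_mem_US F (by simp) t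
  have hU : ∀ t, slU t ∈ T := fun t n hn => by
    rw [phi_U]
    refine hgen _ (fun s hs u => ?_) n hn
    rcases hs with rfl | rfl | rfl
    · rw [swap27 H]
      have : C.X F d7 t * (C.X F d6 (-u * t) * C.X F d4 (-u ^ 2 * t)) =
          (C.X F d6 (-u * t) * C.X F d4 (-u ^ 2 * t)) * C.X F d7 t :=
        ((c67 H _ t).symm.mul_right (c47 H _ t).symm).eq
      rw [mul_assoc (C.X F d2 u), this, ← mul_assoc, mul_inv_cancel_right]
      exact mul_mem (m2 u) (mul_mem (m6 _) (m4 _))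
    · rw [← (c47 H u t).eq, mul_inv_cancel_right]; exact m4 u
    · rw [← (c67 H u t).eq, mul_inv_cancel_right]; exact m6 u
  have hL : ∀ t, slL t ∈ T := fun t n hn => by
    rw [phi_L, show (d7 : Rt chevB2).rev = d0 from rfl]
    refine hgen _ (fun s hs u => ?_) n hn
    rcases hs with rfl | rfl | rfl
    · rw [(c02 H t u).eq, mul_inv_cancel_right]; exact m2 u
    · rw [(c04 H t u).eq, mul_inv_cancel_right]; exact m4 u
    · rw [C.X_inv, mul_assoc, swap06 H]
      simp only [← mul_assoc]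
      rw [C.X_add, add_neg_cancel, C.X_zero, one_mul, mul_assoc]
      exact mul_mem (m6 u) (mul_mem (m2 _) (m4 _))
  have : g ∈ T := by
    by_cases h : (g : Matrix (Fin 2) (Fin 2) F) 1 0 = 0
    · obtain ⟨a, u, -, rfl⟩ := sl_upper g h
      have hN : ∀ u : Fˣ, slN u ∈ T := fun u => mul_mem (mul_mem (hU _) (hL _)) (hU _)
      exact mul_mem (hU a) (mul_mem (hN u) (hN (-1)))
    · obtain ⟨a, b, e⟩ := sl_lower g h
      rw [e]
      exact mul_mem (mul_mem (hU a) (hL _)) (hU b)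
  exact this n hn

omit H in
theorem pr_facts : pr chevB2 d7 d4 = 0 ∧ pr chevB2 d7 d6 = 1 ∧ pr chevB2 d7 d7 = 2 := by decide +kernel

theorem hD_conj_S (u : Fˣ) (z a f : F) :
    Core.hD F d7 u * S C z a f * (Core.hD F d7 u)⁻¹ = S C z ((u : F) * a) ((u : F) ^ 2 * f) := by
  obtain ⟨p4, p6, p7⟩ := pr_facts
  rw [show Core.hD F d7 u * S C z a f * (Core.hD F d7 u)⁻¹ = (Core.hD F d7 u * C.X F d4 z * (Core.hD F d7 u)⁻¹) *
    ((Core.hD F d7 u * C.X F d6 a * (Core.hD F d7 u)⁻¹) * (Core.hD F d7 u * C.X F d7 f * (Core.hD F d7 u)⁻¹)) by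
      unfold S; group,
    C.hD_X, C.hD_X, C.hD_X, mul_inv_cancel_right, mul_inv_cancel_right, mul_inv_cancel_right, p4, p6, p7]
  simp [S, zpow_two, sq]

theorem eq_one_of_phi_mem {g : Matrix.SpecialLinearGroup (Fin 2) F} (hg : phi C F d7 g ∈ jacN C F) : g = 1 := by
  obtain ⟨b, hb⟩ := exists_b H hg
  by_cases h : (g : Matrix (Fin 2) (Fin 2) F) 1 0 = 0
  · obtain ⟨a, u, -, rfl⟩ := sl_upper g h
    rw [map_mul, phi_U, phi_H] at hb hg
    have hact : ∀ z x f : F, C.X F d7 a * Core.hD F d7 u * S C z x f * (C.X F d7 a * Core.hD F d7 u)⁻¹ =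
        S C z ((u : F) * x) ((u : F) ^ 2 * f) := fun z x f => by
      rw [mul_inv_rev, show C.X F d7 a * Core.hD F d7 u * S C z x f * ((Core.hD F d7 u)⁻¹ * (C.X F d7 a)⁻¹) =
        C.X F d7 a * (Core.hD F d7 u * S C z x f * (Core.hD F d7 u)⁻¹) * (C.X F d7 a)⁻¹ by group,
        hD_conj_S H, S7, S_conj_S H]
    obtain ⟨-, hu, -⟩ := S_inj H ((hact 0 1 0).symm.trans (hb 0 1 0))
    have hu1 : u = 1 := Units.ext (by simpa using hu)
    subst hu1
    rw [show Core.hD F d7 (1 : Fˣ) = 1 by rw [← C.gH_snd, C.gH_one]; rfl, mul_one] at hg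
    have key : ∀ n ∈ jacN C F, ∃ k : F, n * C.X F d2 1 * n⁻¹ = C.X F d2 1 * C.X F d4 k := by
      intro n hn
      induction hn using Subgroup.closure_induction with
      | mem x hx =>
        obtain ⟨r, hr, t, rfl⟩ := hx
        rcases hr with rfl | rfl | rfl
        · exact ⟨0, by rw [(csame d2 t 1).eq, mul_inv_cancel_right, C.X_zero, mul_one]⟩
        · exact ⟨0, by rw [← (c24 H 1 t).eq, mul_inv_cancel_right, C.X_zero, mul_one]⟩
        · refine ⟨2 * t, ?_⟩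
          have e := swap62 H (-t) (1 : F)
          rw [C.X_inv, mul_assoc, e]
          simp only [← mul_assoc]
          rw [C.X_add, add_neg_cancel, C.X_zero, one_mul]
          congr 2; ring
      | one => exact ⟨0, by simp [C.X_zero]⟩
      | mul x y hx _ ihx ihy =>
        obtain ⟨k, hk⟩ := ihx
        obtain ⟨k', hk'⟩ := ihy
        obtain ⟨b', hb'⟩ := exists_b H hx
        refine ⟨k + k', ?_⟩
        rw [mul_inv_rev, show x * y * C.X F d2 1 * (y⁻¹ * x⁻¹) = x * (y * C.X F d2 1 * y⁻¹) * x⁻¹ by group, hk',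
          show x * (C.X F d2 1 * C.X F d4 k') * x⁻¹ = (x * C.X F d2 1 * x⁻¹) * (x * C.X F d4 k' * x⁻¹) by group, hk,
          S4, S4, S4, hb', mul_assoc, S_mul H]
        simp
      | inv x hx ih =>
        obtain ⟨k, hk⟩ := ih
        obtain ⟨b', hb'⟩ := exists_b H hx
        refine ⟨-k, ?_⟩
        have e : x * (C.X F d2 1 * C.X F d4 (-k)) * x⁻¹ = C.X F d2 1 := by
          rw [show x * (C.X F d2 1 * C.X F d4 (-k)) * x⁻¹ = (x * C.X F d2 1 * x⁻¹) * (x * C.X F d4 (-k) * x⁻¹) by group,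
            hk, S4 (-k), hb', S4, mul_assoc, S_mul H]
          simp [S_zero]
        conv_lhs => rw [← e]
        group
    obtain ⟨k, hk⟩ := key _ hg
    rw [swap27 H, S6, S4, S7, S_mul H, S_inv H, mul_assoc, mul_assoc, S_mul H, S_mul H, S4, mul_right_inj] at hk
    obtain ⟨-, ha, -⟩ := S_inj H hk
    have ha0 : a = 0 := by linear_combination -ha
    refine Subtype.ext ?_
    simp [ha0, Matrix.SpecialLinearGroup.coe_mul, slH_val, Matrix.one_fin_two]
  · exfalso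
    obtain ⟨a, b', e⟩ := sl_lower g h
    set k := (g : Matrix (Fin 2) (Fin 2) F) 1 0
    have h1 := hb 0 1 0
    rw [e, map_mul, map_mul, phi_U, phi_U, phi_L, show (d7 : Rt chevB2).rev = d0 from rfl] at h1
    have hLk : C.X F d0 k * S C 0 1 0 * (C.X F d0 k)⁻¹ = S C 0 1 0 * (C.X F d2 (-k) * S C k 0 0) := by
      rw [← S6, C.X_inv, mul_assoc, swap06 H]
      simp only [← mul_assoc]
      rw [C.X_add, add_neg_cancel, C.X_zero,
        one_mul, ← S4, mul_assoc]
      simp [mul_assoc]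
    have hx2 : C.X F d7 a * C.X F d2 (-k) * (C.X F d7 a)⁻¹ = C.X F d2 (-k) * S C (-k ^ 2 * a) (k * a) 0 := by
      rw [swap27 H, S6, S4, S7, S_mul H, S_inv H, mul_assoc, mul_assoc, S_mul H, S_mul H]
      congr 2 <;> ring
    rw [mul_inv_rev, mul_inv_rev, show C.X F d7 a * C.X F d0 k * C.X F d7 b' * S C 0 1 0 *
        ((C.X F d7 b')⁻¹ * ((C.X F d0 k)⁻¹ * (C.X F d7 a)⁻¹)) =
      C.X F d7 a * (C.X F d0 k * (C.X F d7 b' * S C 0 1 0 * (C.X F d7 b')⁻¹) * (C.X F d0 k)⁻¹) * (C.X F d7 a)⁻¹ by group,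
      S7 b', S_conj_S H, hLk,
      show C.X F d7 a * (S C 0 1 0 * (C.X F d2 (-k) * S C k 0 0)) * (C.X F d7 a)⁻¹ =
        (C.X F d7 a * S C 0 1 0 * (C.X F d7 a)⁻¹) * ((C.X F d7 a * C.X F d2 (-k) * (C.X F d7 a)⁻¹) *
          (C.X F d7 a * S C k 0 0 * (C.X F d7 a)⁻¹)) by group,
      hx2, S7 a, S_conj_S H, S_conj_S H, mul_assoc (C.X F d2 (-k)), S_mul H] at h1
    -- so the short root element lies in the Siegel group
    rw [← eq_inv_mul_iff_mul_eq, S_inv H, S_mul H, ← eq_mul_inv_iff_mul_eq, S_inv H, S_mul H] at h1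
    have h2 := conj2 H (-k) 0 0 1
    rw [h1, S_conj_S H] at h2
    obtain ⟨-, hk, -⟩ := S_inj H h2
    exact h (by linear_combination hk)

/-- The subgroup of SL(2) induced by the conjugated overgroup on the Jacobi group. -/
def gamma (M : Subgroup (GL chevB2.Idx F)) (q : GL chevB2.Idx F) : Subgroup (Matrix.SpecialLinearGroup (Fin 2) F) where
  carrier := {g | ∃ n ∈ jacN C F, phi C F d7 g * n ∈ conjBy M q}
  one_mem' := ⟨1, one_mem _, by rw [map_one, mul_one]; exact one_mem _⟩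
  mul_mem' := by
    rintro g g' ⟨n, hn, h⟩ ⟨n', hn', h'⟩
    have hc := phi_normalizes H g'⁻¹ hn
    rw [map_inv, inv_inv] at hc
    refine ⟨_, mul_mem hc hn', ?_⟩
    convert mul_mem h h' using 1
    rw [map_mul]
    group
  inv_mem' := by
    rintro g ⟨n, hn, h⟩
    refine ⟨_, phi_normalizes H g (inv_mem hn), ?_⟩
    convert inv_mem h using 1
    rw [map_inv]
    group

theorem finite_gamma [Finite (conjBy M q)] : Finite (gamma H M q) := by
  refine Finite.of_injective (fun g : gamma H M q => (⟨phi C F d7 g * g.2.choose, g.2.choose_spec.2⟩ : conjBy M q))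
    fun a b h => ?_
  have e : phi C F d7 a * a.2.choose = phi C F d7 b * b.2.choose := congrArg Subtype.val h
  have : phi C F d7 ((b : Matrix.SpecialLinearGroup (Fin 2) F)⁻¹ * a) = b.2.choose * a.2.choose⁻¹ := by
    rw [map_mul, map_inv, eq_mul_inv_iff_mul_eq, mul_assoc, e, inv_mul_cancel_left]
  have h1 := eq_one_of_phi_mem H (this ▸ mul_mem b.2.choose_spec.1 (inv_mem a.2.choose_spec.1))
  exact (Subtype.ext (inv_mul_eq_one.1 h1)).symm

/-- In characteristic three the radical parameter lies in the quadratic extension. -/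
theorem xi_quadratic [CharP F 3] (B : Bad R0 M A q c) (hA : ∀ x ∈ A, x = 0 ∨ x = 1 ∨ x = -1) {ξ : F}
    (hξ : ∀ z a : F, (∃ f, q * S C z 0 0 * q⁻¹ = S C z (ξ * z) f) ∧ q * S C 0 a 0 * q⁻¹ = S C 0 a (-2 * ξ * a)) :
    ξ ∉ A ∧ ∃ i a0 a1 : F, i ^ 2 = -1 ∧ a0 ∈ A ∧ a1 ∈ A ∧ ξ = a0 + a1 * i := by
  classical
  have h3 : (3 : F) = 0 := by exact_mod_cast CharP.cast_eq_zero F 3
  have h2 : (2 : F) ≠ 0 := fun h => one_ne_zero (α := F) (by linear_combination h3 - h)
  haveI := B.finite_conjBy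
  haveI := finite_gamma (H := H) (M := M) (q := q)
  set Γ := gamma H M q
  have hαA : ∀ t ∈ A, C.X F d7 t ∈ conjBy M q := fun t ht => by
    rw [← alpha_eq R0]; exact (B.alpha_mem H).2 ht
  have hnp : ξ ∉ A := by
    intro hξA
    have hp : C.X F d6 1 ∈ conjBy M q := by
      rw [mem_conjBy, S6, (hξ 0 1).2]
      have h6 : S C 0 1 0 ∈ M := by rw [← S6]; exact B.one_mem d6
      have h7 : S C 0 0 (-2 * ξ * 1) ∈ M := by
        rw [← S7]; exact B.mem_root d7 _ (mul_mem (mul_mem (neg_mem (ofNat_mem A 2)) hξA) A.one_mem)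
      simpa [S_mul H] using mul_mem h6 h7
    have hW := mem_conjBy.1 (pure_elements H B hp)
    obtain ⟨f, hf⟩ := conj_rad H R0 B.q_mem hξ (-c ^ 2) (-c) 0
    rw [hf] at hW
    obtain ⟨hz, ha⟩ := siegel_odd H h2 B hW
    apply B.c_not_mem
    have := neg_mem (sub_mem ha (mul_mem hξA hz))
    convert this using 1
    ring
  refine ⟨hnp, ?_⟩
  have hzΓ : slU (2 * ξ) ∈ Γ := by
    refine ⟨S C 0 1 0, by rw [← S6]; exact C.X_mem_US F (by simp) 1, mem_conjBy.2 ?_⟩
    rw [phi_U, S7, S_mul H]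
    have e : q * S C (0 + 0) (0 + 1) (2 * ξ + 0) * q⁻¹ = S C 0 1 0 := by
      rw [show S C (0 + 0) (0 + 1) (2 * ξ + 0) = S C 0 1 0 * S C 0 0 (2 * ξ) by rw [S_mul H]; simp,
        show q * (S C 0 1 0 * S C 0 0 (2 * ξ)) * q⁻¹ = (q * S C 0 1 0 * q⁻¹) * (q * S C 0 0 (2 * ξ) * q⁻¹) by group,
        (hξ 0 1).2, ← S7 (2 * ξ), ← alpha_eq R0, (commute_alpha_rad R0 H B.q_mem _).eq, mul_inv_cancel_right,
        alpha_eq R0, S7, S_mul H]
      simp
    rw [e, ← S6]; exact B.one_mem d6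
  have hAΓ : ∀ t ∈ A, t ∈ Sl2.uSet Γ := fun t ht =>
    ⟨1, one_mem _, by rw [phi_U, mul_one]; exact hαA t ht⟩
  have hL : slL c ∈ Γ := ⟨1, one_mem _, by
    rw [phi_L, mul_one, ← alpha_eq R0]; exact B.y_mem⟩
  haveI : Finite (Sl2.uSet Γ) := Finite.of_injective (fun t => (⟨slU t, t.2⟩ : Γ)) fun a b h =>
    Subtype.ext (by simpa using congrFun (congrFun (congrArg (fun g : Γ => ((g : Matrix.SpecialLinearGroup (Fin 2) F) : Matrix (Fin 2) (Fin 2) F)) h) 0) 1)
  have hξA2 : 2 * ξ ∉ A := fun h => hnp (by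
    have := mul_mem (inv_mem (ofNat_mem A 2)) h
    rwa [inv_mul_cancel_left₀ h2] at this)
  have hzT : 2 * ξ ∈ Sl2.uSet Γ := hzΓ
  have h4 : 4 ≤ Nat.card (Sl2.uSet Γ) := by
    let f : Fin 4 → Sl2.uSet Γ :=
      ![⟨0, zero_mem _⟩, ⟨1, hAΓ 1 A.one_mem⟩, ⟨-1, hAΓ _ (neg_mem A.one_mem)⟩, ⟨2 * ξ, hzT⟩]
    have hf : Function.Injective f := by
      intro i j hij
      have e := congrArg Subtype.val hij
      have h1 : (1 : F) ≠ -1 := fun h => h2 (by linear_combination h)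
      have hz0 : 2 * ξ ≠ 0 := fun h => hξA2 (h ▸ A.zero_mem)
      have hz1 : 2 * ξ ≠ 1 := fun h => hξA2 (h ▸ A.one_mem)
      have hz2 : 2 * ξ ≠ -1 := fun h => hξA2 (h ▸ neg_mem A.one_mem)
      fin_cases i <;> fin_cases j <;> simp [f] at e ⊢ <;>
        first
        | exact absurd e h1
        | exact absurd e.symm h1
        | exact absurd e hz0
        | exact absurd e.symm hz0
        | exact absurd e hz1
        | exact absurd e.symm hz1
        | exact absurd e hz2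
        | exact absurd e.symm hz2
        | exact absurd e (mul_ne_zero h2 fun h => hnp (h ▸ A.zero_mem))
        | simp_all
    simpa using Nat.card_le_card_of_injective f hf
  obtain ⟨-, -, hgen⟩ := Sl2.param_field 3 Γ B.c_ne_zero (hAΓ 1 A.one_mem) hL h4
  obtain ⟨W, hW, h10, hτ⟩ : ∃ W ∈ Γ, (W : Matrix (Fin 2) (Fin 2) F) 1 0 = 0 ∧
      (W : Matrix (Fin 2) (Fin 2) F) 0 0 ∉ A := by
    by_contra hne
    push Not at hne
    exact hξA2 (hgen A hne _ hzT)
  obtain ⟨a, u, hu, rfl⟩ := sl_upper W h10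
  rw [← hu] at hτ
  obtain ⟨n, hn, hw⟩ := hW
  obtain ⟨b, hb⟩ := exists_b H hn
  have hact : ∀ z x f : F, S C z x f ∈ conjBy M q →
      z - 2 * x * b - b ^ 2 * f ∈ A ∧ (u : F) * (x + b * f) + ξ * (z - 2 * x * b - b ^ 2 * f) ∈ A := by
    intro z x f hS
    have hm := mem_conjBy.1 (mul_mem (mul_mem hw hS) (inv_mem hw))
    rw [map_mul, phi_U, phi_H, mul_inv_rev, mul_inv_rev,
      show C.X F d7 a * Core.hD F d7 u * n * S C z x f * (n⁻¹ * ((Core.hD F d7 u)⁻¹ * (C.X F d7 a)⁻¹)) =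
        C.X F d7 a * (Core.hD F d7 u * (n * S C z x f * n⁻¹) * (Core.hD F d7 u)⁻¹) * (C.X F d7 a)⁻¹ by group,
      hb, hD_conj_S H, S7, S_conj_S H] at hm
    obtain ⟨f', hf'⟩ := conj_rad H R0 B.q_mem hξ (z - 2 * x * b - b ^ 2 * f) ((u : F) * (x + b * f)) ((u : F) ^ 2 * f)
    rw [hf'] at hm
    exact siegel_odd H h2 B hm
  obtain ⟨hz1, hb1⟩ := hact 0 0 1 (by rw [← S7]; exact hαA 1 A.one_mem)
  obtain ⟨hzX, hbX⟩ := hact 0 1 (2 * ξ) (by
    rw [mem_conjBy, show S C 0 1 (2 * ξ) = S C 0 1 0 * S C 0 0 (2 * ξ) by rw [S_mul H]; simp,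
      show q * (S C 0 1 0 * S C 0 0 (2 * ξ)) * q⁻¹ = (q * S C 0 1 0 * q⁻¹) * (q * S C 0 0 (2 * ξ) * q⁻¹) by group,
      (hξ 0 1).2, ← S7 (2 * ξ), ← alpha_eq R0, (commute_alpha_rad R0 H B.q_mem _).eq, mul_inv_cancel_right,
      alpha_eq R0, S7, S_mul H]
    simpa [S, C.X_zero] using B.one_mem d6)
  rcases eq_or_ne b 0 with rfl | hb0
  · exfalso
    apply hτ
    simpa using hbX
  · set zX := 0 - 2 * 1 * b - b ^ 2 * (2 * ξ)
    have hb2 : b ^ 2 ∈ A := by
      have := neg_mem hz1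
      convert this using 1; ring
    rcases hA _ hb2 with h | h | h
    · exact absurd ((sq_eq_zero_iff).mp h) hb0
    · exfalso
      have hbA : b ∈ A := by
        rcases sq_eq_one_iff.mp h with e | e
        · rw [e]; exact A.one_mem
        · rw [e]; exact neg_mem A.one_mem
      apply hnp
      have : ξ = -(2 * b + zX) / (2 * b ^ 2) := by
        rw [eq_div_iff (mul_ne_zero h2 (pow_ne_zero 2 hb0))]
        simp only [zX]; ring
      rw [this]
      exact div_mem (neg_mem (add_mem (mul_mem (ofNat_mem A 2) hbA) hzX)) (mul_mem (ofNat_mem A 2) hb2)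
    · refine ⟨b, -zX / (2 * b ^ 2), -2 / (2 * b ^ 2), h, div_mem (neg_mem hzX) (mul_mem (ofNat_mem A 2) hb2),
        div_mem (neg_mem (ofNat_mem A 2)) (mul_mem (ofNat_mem A 2) hb2), ?_⟩
      have hd : (2 : F) * b ^ 2 ≠ 0 := mul_ne_zero h2 (pow_ne_zero 2 hb0)
      rw [div_mul_eq_mul_div, ← add_div, eq_div_iff hd]
      simp only [zX]; ring

omit H in
theorem pr_zero_facts : pr chevB2 d7 d3 = 0 ∧ pr chevB2 d7 d4 = 0 := by decide +kernel

/-- Characteristic three. -/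
theorem false_three [CharP F 3] (B : Bad R0 M A q c) (hA : ∀ x ∈ A, x = 0 ∨ x = 1 ∨ x = -1) : False := by
  have h3 : (3 : F) = 0 := by exact_mod_cast CharP.cast_eq_zero F 3
  have h2 : (2 : F) ≠ 0 := fun h => one_ne_zero (α := F) (by linear_combination h3 - h)
  obtain ⟨ξ, hξ⟩ := exists_xi H R0 B.q_mem
  obtain ⟨hξA, i, a0, a1, hi, ha0, ha1, hξe⟩ := xi_quadratic H B hA hξ
  obtain ⟨z5, hz5⟩ := exists_z R0 H B.q_mem (v := d5) (by rw [alpha_eq R0]; decide +kernel) 1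
  rw [alpha_eq R0] at hz5
  obtain ⟨w06, w07, w16, w17, w15⟩ := w_facts (C := C)
  -- the second parameter
  have hpr0 : pr chevB2 R0.α (C.p ⟨1, by decide⟩) = 0 := by
    rw [alpha_eq R0, show C.p ⟨1, by decide⟩ = d4 from Fin.ext (by rw [← C.simple_eq]; decide +kernel)]
    decide +kernel
  set P := C.P F ⟨1, by decide⟩
  have hPm : P ∈ M := P_mem C B.one_mem _
  have hPQ : P * q * P⁻¹ ∈ R0.Q F := by
    refine C.conj_mem_US F (σ := C.sref ⟨1, by decide⟩) (fun r => ⟨C.ηU F _ r, fun t => C.P_X_conj F _ r t⟩) ?_ B.q_mem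
    intro r hr
    show 0 < pr chevB2 R0.α (C.w _ r)
    have hr' : 0 < pr chevB2 R0.α r := hr
    rw [show R0.α = C.w ⟨1, by decide⟩ R0.α by rw [alpha_eq R0, w17], C.pr_w]
    exact hr'
  have hη0 : (C.η ⟨1, by decide⟩ R0.α : F) ∈ A ∧ (C.η ⟨1, by decide⟩ R0.α : F) ≠ 0 := by
    refine ⟨intCast_mem A _, ?_⟩
    rcases C.η_one ⟨1, by decide⟩ R0.α with h | h <;> simp [h]
  have hPc : ∀ t : F, P * C.X F R0.α.rev t * P⁻¹ = C.X F R0.α.rev ((C.η ⟨1, by decide⟩ R0.α : F) * t) := fun t => by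
    rw [C.P_X_conj, C.η_rev, C.w_rev, alpha_eq R0, w17]
  have B' := B.transfer H hPm hη0.2 hPc hη0.1 hPQ
  obtain ⟨ξ', hξ'⟩ := exists_xi H R0 B'.q_mem
  obtain ⟨hξA', i', b0, b1, hi', hb0, hb1, hξe'⟩ := xi_quadratic H B' hA hξ'
  obtain ⟨η5, η7, hη5, hη7, hrel⟩ : ∃ η5 η7 : F, (η5 = 1 ∨ η5 = -1) ∧ (η7 = 1 ∨ η7 = -1) ∧
      -2 * ξ' * η5 = η7 * z5 := by
    refine ⟨(C.η ⟨1, by decide⟩ d5 : F), (C.η ⟨1, by decide⟩ d7 : F), ?_, ?_, ?_⟩
    · rcases C.η_one ⟨1, by decide⟩ d5 with h | h <;> simp [h]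
    · rcases C.η_one ⟨1, by decide⟩ d7 with h | h <;> simp [h]
    · have e := congrArg (fun g => P * g * P⁻¹) hz5
      simp only [show P * (q * C.X F d5 1 * q⁻¹) * P⁻¹ = (P * q * P⁻¹) * (P * C.X F d5 1 * P⁻¹) * (P * q * P⁻¹)⁻¹ by group,
        show P * (C.X F d5 1 * C.X F d7 z5) * P⁻¹ = (P * C.X F d5 1 * P⁻¹) * (P * C.X F d7 z5 * P⁻¹) by group] at e
      simp only [P, C.P_X_conj, w15, w17, mul_one] at e
      rw [S6, S7] at e
      rw [(hξ' 0 _).2, S_mul H] at e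
      obtain ⟨-, -, h⟩ := S_inj H e
      simpa using h
  -- choose the transvection
  obtain ⟨t, ht, hpure⟩ : ∃ t : F, (t = 1 ∨ t = -1) ∧ -2 * ξ - t * z5 ∈ A := by
    have hi2 : i' = i ∨ i' = -i := sq_eq_sq_iff_eq_or_eq_neg.mp (hi'.trans hi.symm)
    have hz5' : z5 = η7 * (-2 * ξ' * η5) := by
      rcases hη7 with e | e <;> rw [e] at hrel ⊢
      · linear_combination -hrel
      · linear_combination hrel
    -- the coefficient of i in z5
    obtain ⟨s, hs, hz5e⟩ : ∃ s : F, (s = 1 ∨ s = -1) ∧ ∃ w ∈ A, z5 = w + s * i := by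
      have hb1' : b1 = 1 ∨ b1 = -1 := by
        rcases hA _ hb1 with e | e | e
        · exfalso; apply hξA'; rw [hξe', e]; simpa using hb0
        · exact Or.inl e
        · exact Or.inr e
      have hm2 : (-2 : F) = 1 := by linear_combination -h3
      rw [hz5', hξe', hm2]
      rcases hη7 with rfl | rfl <;> rcases hη5 with rfl | rfl <;> rcases hb1' with rfl | rfl <;> rcases hi2 with rfl | rfl <;>
        first
        | (refine ⟨1, Or.inl rfl, b0, hb0, ?_⟩; ring1)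
        | (refine ⟨-1, Or.inr rfl, b0, hb0, ?_⟩; ring1)
        | (refine ⟨1, Or.inl rfl, -b0, neg_mem hb0, ?_⟩; ring1)
        | (refine ⟨-1, Or.inr rfl, -b0, neg_mem hb0, ?_⟩; ring1)
    obtain ⟨w, hw, hz5e⟩ := hz5e
    have ha1' : a1 = 1 ∨ a1 = -1 := by
      rcases hA _ ha1 with e | e | e
      · exfalso; apply hξA; rw [hξe, e]; simpa using ha0
      · exact Or.inl e
      · exact Or.inr e
    refine ⟨a1 * s, by rcases ha1' with rfl | rfl <;> rcases hs with rfl | rfl <;> simp, ?_⟩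
    have e : -2 * ξ - a1 * s * z5 = a0 - a1 * s * w := by
      have hs2 : s * s = 1 := by rcases hs with rfl | rfl <;> ring
      rw [hz5e, hξe]
      linear_combination (-(a0 + a1 * i)) * h3 - a1 * i * hs2
    rw [e]
    exact sub_mem ha0 (mul_mem (mul_mem ha1 (by rcases hs with rfl | rfl <;> [exact A.one_mem; exact neg_mem A.one_mem])) hw)
  -- the transported radical element has a rational parameter
  set m := C.X F d3 t
  have htA : t ∈ A := by rcases ht with rfl | rfl <;> [exact A.one_mem; exact neg_mem A.one_mem]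
  have hpr3 : pr chevB2 R0.α d3 = 0 := by rw [alpha_eq R0]; exact pr_zero_facts.1
  have hmM : m ∈ M := B.mem_root d3 t htA
  have hmc : ∀ x : F, m * C.X F R0.α.rev x * m⁻¹ = C.X F R0.α.rev (1 * x) := fun x => by
    rw [(commute_zero R0 H hpr3 (Or.inr rfl) t x).eq, mul_inv_cancel_right, one_mul]
  have B'' := B.transfer H hmM one_ne_zero hmc A.one_mem (X_normalizes_Q R0 H hpr3.ge t B.q_mem)
  obtain ⟨ξ'', hξ''⟩ := exists_xi H R0 B''.q_mem
  obtain ⟨hξA'', -⟩ := xi_quadratic H B'' hA hξ''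
  apply hξA''
  have hz5t : q * C.X F d5 (-t) * q⁻¹ = C.X F d5 (-t) * C.X F d7 (-t * z5) := by
    rcases ht with rfl | rfl
    · have := congrArg Inv.inv hz5
      simp only [mul_inv_rev, inv_inv, C.X_inv] at this
      rw [← (c57 H (-1) (-z5)).eq, ← mul_assoc] at this
      simpa using this
    · simpa using hz5
  have hm6 : m⁻¹ * C.X F d6 1 * m = C.X F d6 1 * (C.X F d5 (-t) * C.X F d7 (-t)) := by
    simp only [m]
    rw [mul_assoc, swap36 H, C.X_inv]
    simp only [← mul_assoc]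
    rw [C.X_add, neg_add_cancel, C.X_zero, one_mul]
    simp [mul_assoc]
  have hm7 : ∀ x : F, m * C.X F d7 x * m⁻¹ = C.X F d7 x := fun x => by
    rw [← alpha_eq R0, (commute_zero R0 H hpr3 (Or.inl rfl) t x).eq, mul_inv_cancel_right]
  have hq7 : ∀ x : F, q * C.X F d7 x * q⁻¹ = C.X F d7 x := fun x => by
    rw [← alpha_eq R0, (commute_alpha_rad R0 H B.q_mem x).eq, mul_inv_cancel_right]
  have e1 : (m * q * m⁻¹) * S C 0 1 0 * (m * q * m⁻¹)⁻¹ = S C 0 1 (-2 * ξ - t * z5) := by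
    have hq6 : q * C.X F d6 1 * q⁻¹ = C.X F d6 1 * C.X F d7 (-2 * ξ) := by
      rw [S6, (hξ 0 1).2, S7, S_mul H]; simp
    have e2 : q * (m⁻¹ * C.X F d6 1 * m) * q⁻¹ =
        (C.X F d6 1 * (C.X F d5 (-t) * C.X F d7 (-t))) * C.X F d7 (-2 * ξ - t * z5) := by
      rw [hm6, show q * (C.X F d6 1 * (C.X F d5 (-t) * C.X F d7 (-t))) * q⁻¹ = (q * C.X F d6 1 * q⁻¹) *
        ((q * C.X F d5 (-t) * q⁻¹) * (q * C.X F d7 (-t) * q⁻¹)) by group, hq6, hz5t, hq7]
      simp only [mul_assoc]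
      rw [← mul_assoc (C.X F d7 (-2 * ξ)) (C.X F d5 (-t)), ← (c57 H (-t) (-2 * ξ)).eq]
      simp only [mul_assoc, C.X_add]
      congr 3; ring
    rw [← S6, show m * q * m⁻¹ * C.X F d6 1 * (m * q * m⁻¹)⁻¹ = m * (q * (m⁻¹ * C.X F d6 1 * m) * q⁻¹) * m⁻¹ by group,
      e2, ← hm6, show m * (m⁻¹ * C.X F d6 1 * m * C.X F d7 (-2 * ξ - t * z5)) * m⁻¹ =
        C.X F d6 1 * (m * C.X F d7 (-2 * ξ - t * z5) * m⁻¹) by group, hm7, S6, S7, S_mul H]
    simp
  have h6 := (hξ'' 0 1).2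
  rw [e1] at h6
  obtain ⟨-, -, h⟩ := S_inj H h6
  rw [h] at hpure
  have := mul_mem (inv_mem (neg_mem (ofNat_mem A 2))) (by simpa using hpure : (-2 : F) * ξ'' ∈ A)
  rwa [inv_mul_cancel_left₀ (neg_ne_zero.2 h2)] at this

end Arguments

end Cfsg.Agent.Lib.SubfieldChev49.B2
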