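import Cfsg.Agent.Lib.SubfieldChev49.Line

/-!
Certificates for the seven tabulated types, checked on the tables.
-/

set_option autoImplicit false
set_option linter.unusedSectionVars false
set_option linter.unusedVariables false
set_option maxRecDepth 100000
set_option maxHeartbeats 1000000

namespace Cfsg.Agent.Lib.SubfieldChev49

open Cfsg.Lie Cfsg.Agent.Lib.ChevStructure Cfsg.Agent.Lib.RootPairs.LongPair Cfsg.Agent.Lib.RootPairs.Main
open scoped MatrixGroups Matrix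

variable {D : ChevalleyDatum}

/-- A word of reflections applied to a root index. -/
def reflL (D : ChevalleyDatum) (L : List ℕ) (r : ℕ) : ℕ := L.foldr D.reflectRoot r

theorem reflL_eq (C : Core D) : ∀ (L : List (Fin D.rank)) (r : Rt D),
    (C.pprod L r).val = reflL D (L.map Fin.val) r.val
  | [], r => rfl
  | i :: L, r => by
    rw [C.pprod_cons, Equiv.Perm.mul_apply, C.sref_apply, ← C.w_eq, reflL_eq C L r]
    rfl

/-- The table form of `RootCert`. -/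
def RawRoot (D : ChevalleyDatum) (h0 : 0 < D.nroots) (deg lng : List (List (Fin D.rank))) : Prop :=
  IsLong D (top D h0) ∧ ∀ i : Fin D.rank, ∀ p : Rt D, p.val = D.simple i.val →
    0 ≤ pr D (top D h0) p ∧
      (IsLong D p → reflL D ((lng.getD i.val []).map Fin.val) (top D h0).val = p.val) ∧
      (¬ IsLong D p → ∀ r : Rt D, r.val = reflL D ((deg.getD i.val []).map Fin.val) p.val →
        pr D (top D h0) r = 1 ∨ pr D (top D h0) r = -1)

instance (D : ChevalleyDatum) (h0 : 0 < D.nroots) (deg lng : List (List (Fin D.rank))) :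
    Decidable (RawRoot D h0 deg lng) := by unfold RawRoot; infer_instance

theorem rootCert_of_raw (C : Core D) {h0 : 0 < D.nroots} {deg lng : List (List (Fin D.rank))}
    (h : RawRoot D h0 deg lng) : RootCert C := by
  obtain ⟨hl, hi⟩ := h
  refine ⟨h0, hl, fun i => (hi i _ (C.simple_eq i).symm).1, fun i hlong => ⟨lng.getD i.val [], ?_⟩, fun i => ?_⟩
  · exact Fin.ext ((reflL_eq C _ _).trans ((hi i _ (C.simple_eq i).symm).2.1 hlong))
  · by_cases hlong : IsLong D (C.p i)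
    · exact Or.inl hlong
    · exact Or.inr ⟨deg.getD i.val [], (hi i _ (C.simple_eq i).symm).2.2 hlong _ (reflL_eq C _ _)⟩

/-- The table form of `MultCert`. -/
def RawMult (D : ChevalleyDatum) (N : ℤ) : Prop :=
  (∀ i : Fin D.rank, ∀ p : Rt D, p.val = D.simple i.val → IsLong D p ∨
    ((∃ β : Rt D, (pr D p β = N ∨ pr D p β = -N) ∧ IsLong D β) ∧
      ∃ β γ : Rt D, (∀ j, N * A D j p = A D j β + A D j γ) ∧ IsLong D β ∧ IsLong D γ)) ∧
  (N = 1 ∨ ∀ i : Fin D.rank, ∀ p : Rt D, p.val = D.simple i.val →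
    (∀ β : Rt D, IsLong D p ∨ N ∣ pr D p β ∨ ¬ IsLong D β) ∧
      ∀ (k : Fin 3) (s β : Rt D), N ∣ chM D (k.val + 1) p s β ∨ IsLong D s ∨ ¬ IsLong D β)

instance (D : ChevalleyDatum) (N : ℤ) : Decidable (RawMult D N) := by unfold RawMult; infer_instance

theorem multCert_of_raw (C : Core D) {N : ℤ} (h : RawMult D N) : MultCert C N := by
  obtain ⟨h1, h2⟩ := h
  refine ⟨fun i => ?_, ?_, fun i => ?_⟩
  · rcases h1 i _ (C.simple_eq i).symm with h | ⟨⟨β, hN, hβ⟩, -⟩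
    · exact Or.inl h
    · exact Or.inr ⟨β, hβ, hN⟩
  · rcases h2 with h | h
    · exact Or.inl h
    · refine Or.inr ⟨fun i β hβ => ?_, fun i k s β hβ => ?_⟩
      · rcases (h i _ (C.simple_eq i).symm).1 β with h' | h' | h'
        · exact Or.inl h'
        · exact Or.inr h'
        · exact absurd hβ h'
      · rcases (h i _ (C.simple_eq i).symm).2 k s β with h' | h' | h'
        · exact Or.inr h'
        · exact Or.inl h'
        · exact absurd hβ h'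
  · rcases h1 i _ (C.simple_eq i).symm with h | ⟨-, β, γ, hj, hβ, hγ⟩
    · exact Or.inl h
    · exact Or.inr ⟨β, γ, hβ, hγ, hj⟩

/-- The table form of `LineData`, with a partner of `r`. -/
def RawLine (D : ChevalleyDatum) (h0 : 0 < D.nroots) (v w δ r r' : Rt D) : Prop :=
  pr D (top D h0) v = 1 ∧ pr D (top D h0) δ = 1 ∧ pr D (top D h0) r = 1 ∧ pr D (top D h0) r' = 1 ∧
  (δ ≠ v ∧ δ ≠ v.rev ∧ (D.commTerms v.val δ.val = [((top D h0).val, 1, 1, 1)] ∨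
    D.commTerms v.val δ.val = [((top D h0).val, -1, 1, 1)])) ∧
  ((top D h0).rev ≠ v ∧ (top D h0).rev ≠ v.rev ∧ (D.commTerms v.val (top D h0).rev.val = [(w.val, 1, 1, 1)] ∨
    D.commTerms v.val (top D h0).rev.val = [(w.val, -1, 1, 1)])) ∧
  (top D h0 ≠ w ∧ top D h0 ≠ w.rev ∧ (D.commTerms w.val (top D h0).val = [(v.val, 1, 1, 1)] ∨
    D.commTerms w.val (top D h0).val = [(v.val, -1, 1, 1)])) ∧
  (w ≠ (top D h0).rev ∧ w ≠ (top D h0).rev.rev ∧ D.commTerms (top D h0).rev.val w.val = []) ∧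
  (w ≠ v ∧ w ≠ v.rev ∧ D.commTerms v.val w.val = []) ∧
  (v ≠ r ∧ v ≠ r.rev ∧ D.commTerms r.val v.val = []) ∧
  (w ≠ r ∧ w ≠ r.rev ∧ D.commTerms r.val w.val = []) ∧
  (r' ≠ r ∧ r' ≠ r.rev ∧ r' ≠ v ∧ r' ≠ v.rev ∧ D.commTerms v.val r'.val = [])

set_option synthInstance.maxSize 100000 in
set_option synthInstance.maxHeartbeats 1000000 in
instance (D : ChevalleyDatum) (h0 : 0 < D.nroots) (v w δ r r' : Rt D) :
    Decidable (RawLine D h0 v w δ r r') := by unfold RawLine; infer_instance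

theorem lineData_of_raw (C : Core D) (R0 : RootCert C) {v w δ r r' : Rt D} (h : RawLine D R0.h0 v w δ r r') :
    LineData C R0 v w δ r :=
  let ⟨a, b, c, _, d1, d2, d3, d4, d5, d6, d7, _⟩ := h
  ⟨a, b, c, d1, d2, d3, d4, d5, d6, d7⟩

namespace Certs

theorem rootG2 : RawRoot chevG2 (by decide) [[⟨1, by decide⟩], []] [[], [⟨0, by decide⟩, ⟨1, by decide⟩]] := by
  decide +kernel

theorem rootB2 : RawRoot chevB2 (by decide) [[], []] [[], [⟨0, by decide⟩]] := by decide +kernel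

theorem rootD4 : RawRoot chevD4 (by decide) []
    ([[1, 3, 2, 1], [3, 2, 0, 1], [1, 3, 0, 1], [1, 2, 0, 1]].map fun L => L.map (Fin.ofNat 4)) := by
  decide +kernel

theorem rootF4 : RawRoot chevF4 (by decide) ([[3, 2, 1], [3, 2], [3], []].map fun L => L.map (Fin.ofNat 4))
    ([[], [], [3, 1, 2, 0, 1, 2, 3], [2, 1, 2, 0, 1, 2, 3]].map fun L => L.map (Fin.ofNat 4)) := by
  decide +kernel

theorem rootE6 : RawRoot chevE6 (by decide) []
    ([[2, 3, 4, 5, 1, 3, 4, 2, 3, 1], [3, 4, 5, 2, 3, 4, 0, 2, 3, 1], [3, 4, 5, 1, 3, 4, 0, 2, 3, 1],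
      [4, 5, 2, 1, 3, 4, 0, 2, 3, 1], [5, 3, 2, 1, 3, 4, 0, 2, 3, 1],
      [4, 3, 2, 1, 3, 4, 0, 2, 3, 1]].map fun L => L.map (Fin.ofNat 6)) := by
  decide +kernel

theorem rootE7 : RawRoot chevE7 (by decide) []
    ([[2, 3, 4, 5, 6, 1, 3, 4, 5, 2, 3, 4, 1, 3, 2, 0], [3, 4, 5, 6, 2, 3, 4, 5, 0, 2, 3, 4, 1, 3, 2, 0],
      [3, 4, 5, 6, 1, 3, 4, 5, 0, 2, 3, 4, 1, 3, 2, 0], [4, 5, 6, 2, 1, 3, 4, 5, 0, 2, 3, 4, 1, 3, 2, 0],
      [5, 6, 3, 2, 1, 3, 4, 5, 0, 2, 3, 4, 1, 3, 2, 0], [6, 4, 3, 2, 1, 3, 4, 5, 0, 2, 3, 4, 1, 3, 2, 0],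
      [5, 4, 3, 2, 1, 3, 4, 5, 0, 2, 3, 4, 1, 3, 2, 0]].map fun L => L.map (Fin.ofNat 7)) := by
  decide +kernel

theorem rootE8 : RawRoot chevE8 (by decide) []
    ([[2, 3, 4, 5, 6, 7, 1, 3, 4, 5, 6, 2, 3, 4, 5, 1, 3, 4, 2, 3, 0, 2, 1, 3, 4, 5, 6, 7],
      [3, 4, 5, 6, 7, 2, 3, 4, 5, 6, 0, 2, 3, 4, 5, 1, 3, 4, 2, 3, 0, 2, 1, 3, 4, 5, 6, 7],
      [3, 4, 5, 6, 7, 1, 3, 4, 5, 6, 0, 2, 3, 4, 5, 1, 3, 4, 2, 3, 0, 2, 1, 3, 4, 5, 6, 7],
      [4, 5, 6, 7, 2, 1, 3, 4, 5, 6, 0, 2, 3, 4, 5, 1, 3, 4, 2, 3, 0, 2, 1, 3, 4, 5, 6, 7],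
      [5, 6, 7, 3, 2, 1, 3, 4, 5, 6, 0, 2, 3, 4, 5, 1, 3, 4, 2, 3, 0, 2, 1, 3, 4, 5, 6, 7],
      [6, 7, 4, 3, 2, 1, 3, 4, 5, 6, 0, 2, 3, 4, 5, 1, 3, 4, 2, 3, 0, 2, 1, 3, 4, 5, 6, 7],
      [7, 5, 4, 3, 2, 1, 3, 4, 5, 6, 0, 2, 3, 4, 5, 1, 3, 4, 2, 3, 0, 2, 1, 3, 4, 5, 6, 7],
      [6, 5, 4, 3, 2, 1, 3, 4, 5, 6, 0, 2, 3, 4, 5, 1, 3, 4, 2, 3, 0, 2, 1, 3, 4, 5, 6, 7]].map
        fun L => L.map (Fin.ofNat 8)) := by
  decide +kernel

theorem multG2 : RawMult chevG2 3 := by decide +kernel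
theorem multB2 : RawMult chevB2 2 := by decide +kernel
theorem multD4 : RawMult chevD4 1 := by decide +kernel
theorem multF4 : RawMult chevF4 2 := by decide +kernel
theorem multE6 : RawMult chevE6 1 := by decide +kernel
theorem multE7 : RawMult chevE7 1 := by decide +kernel
theorem multE8 : RawMult chevE8 1 := by decide +kernel

theorem lineG2 : RawLine chevG2 (by decide) ⟨6, by decide⟩ ⟨1, by decide⟩ ⟨10, by decide⟩ ⟨8, by decide⟩ ⟨9, by decide⟩ ∧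
    chevG2.commTerms 8 9 = [(11, 3, 1, 1)] := by decide +kernel
theorem lineD4 : RawLine chevD4 (by decide) ⟨14, by decide⟩ ⟨1, by decide⟩ ⟨22, by decide⟩ ⟨15, by decide⟩ ⟨21, by decide⟩ ∧
    chevD4.commTerms 15 21 = [(23, -1, 1, 1)] := by decide +kernel
theorem lineF4 : RawLine chevF4 (by decide) ⟨24, by decide⟩ ⟨1, by decide⟩ ⟨46, by decide⟩ ⟨26, by decide⟩ ⟨45, by decide⟩ ∧
    chevF4.commTerms 26 45 = [(47, 1, 1, 1)] := by decide +kernel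
theorem lineE6 : RawLine chevE6 (by decide) ⟨46, by decide⟩ ⟨1, by decide⟩ ⟨70, by decide⟩ ⟨47, by decide⟩ ⟨69, by decide⟩ ∧
    chevE6.commTerms 47 69 = [(71, -1, 1, 1)] := by decide +kernel
theorem lineE7 : RawLine chevE7 (by decide) ⟨93, by decide⟩ ⟨1, by decide⟩ ⟨124, by decide⟩ ⟨94, by decide⟩ ⟨123, by decide⟩ ∧
    chevE7.commTerms 94 123 = [(125, -1, 1, 1)] := by decide +kernel
theorem lineE8 : RawLine chevE8 (by decide) ⟨120, by decide⟩ ⟨1, by decide⟩ ⟨238, by decide⟩ ⟨122, by decide⟩ ⟨237, by decide⟩ ∧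
    chevE8.commTerms 122 237 = [(239, 1, 1, 1)] := by decide +kernel

end Certs

end Cfsg.Agent.Lib.SubfieldChev49
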