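import Cfsg.Agent.Lib.SubfieldChev49.Rational

/-!
The unipotent radical Q of the stabiliser of the highest root, and the form of the conjugates of the
highest root subgroup with nonzero extremal coefficient.
-/

set_option autoImplicit false
set_option linter.unusedSectionVars false
set_option linter.style.haveILetI false
set_option linter.unusedVariables false

namespace Cfsg.Agent.Lib.SubfieldChev49

open Cfsg.Lie Cfsg.Agent.Lib.ChevStructure Cfsg.Agent.Lib.RootPairs.LongPair Cfsg.Agent.Lib.RootPairs.Main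
open scoped MatrixGroups Matrix

variable {D : ChevalleyDatum}

section Comm

variable {C : Core D} (H : CommOK C) {F : Type*} [Field F]
include H

theorem commute_X {r s : Rt D} (hrs : s ≠ r.rev)
    (h : ∀ (q : Rt D) (i j : ℕ), 1 ≤ i → 1 ≤ j → C.v q ≠ (i : ℤ) • C.v r + (j : ℤ) • C.v s) (t u : F) :
    Commute (C.X F r t) (C.X F s u) := by
  by_cases hs : s = r
  · subst hs; show _ = _; rw [C.X_add, C.X_add, add_comm]
  refine RootPairs.LongPair.commute_of_nil H hs hrs ?_ t u
  refine List.eq_nil_iff_forall_not_mem.2 fun c hc => ?_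
  obtain ⟨q, -, hi, hj, hv⟩ := H.terms r s hs hrs c hc
  exact h q _ _ hi hj hv

theorem commute_nil {r s : Rt D} (hs : s ≠ r) (hrs : s ≠ r.rev) (he : D.commTerms r.val s.val = []) (t u : F) :
    Commute (C.X F r t) (C.X F s u) :=
  RootPairs.LongPair.commute_of_nil H hs hrs he t u

/-- The commutator formula with a single term. -/
theorem X_swap_single {r s q : Rt D} {m : ℤ} (hs : s ≠ r) (hrs : s ≠ r.rev)
    (he : D.commTerms r.val s.val = [(q.val, m, 1, 1)]) (t u : F) :
    C.X F s u * C.X F r t = C.X F r t * C.X F s u * C.X F q (-(m : F) * t * u) := by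
  rw [H.comm_X r s hs hrs t u, he]
  simp [C.XN_fin]

/-- Conjugation with a single commutator term. -/
theorem X_conj_single {r s q : Rt D} {m : ℤ} (hs : s ≠ r) (hrs : s ≠ r.rev)
    (he : D.commTerms r.val s.val = [(q.val, m, 1, 1)])
    (hq : ∀ a b : F, Commute (C.X F s a) (C.X F q b)) (t u : F) :
    C.X F s u * C.X F r t * (C.X F s u)⁻¹ = C.X F r t * C.X F q (-(m : F) * t * u) := by
  rw [X_swap_single H hs hrs he, mul_assoc (C.X F r t), (hq u _).eq, ← mul_assoc, mul_inv_cancel_right]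

end Comm

section Degree

variable {C : Core D} (R0 : RootCert C)
include R0

theorem pr_alpha_self : pr D R0.α R0.α = 2 := C.pr_self _

theorem pr_alpha_pos {r : Rt D} (hr : r ∈ C.Pos) : 0 ≤ pr D R0.α r := by
  rw [C.pr_lin]
  exact Finset.sum_nonneg fun m _ => mul_nonneg (C.v_sign r hr m) (R0.dom m)

theorem pos_of_pr {r : Rt D} (h : 0 < pr D R0.α r) : r ∈ C.Pos := by
  by_contra hn
  have hr : r.rev ∈ C.Pos := C.rev_pos (Nat.lt_of_not_le hn)
  have := pr_alpha_pos R0 hr
  have e : pr D R0.α r.rev = -pr D R0.α r := by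
    simp [pr, C.A_rev, Finset.sum_neg_distrib]
  omega

theorem alpha_pos : R0.α ∈ C.Pos := pos_of_pr R0 (by rw [pr_alpha_self R0]; norm_num)

theorem pr_alpha_bound (r : Rt D) :
    r = R0.α ∨ r = R0.α.rev ∨ (-1 ≤ pr D R0.α r ∧ pr D R0.α r ≤ 1) := by
  by_cases h1 : r = R0.α
  · exact Or.inl h1
  by_cases h2 : r = R0.α.rev
  · exact Or.inr (Or.inl h2)
  exact Or.inr (Or.inr ⟨(R0.long r h1 h2).2, (R0.long r h1 h2).1⟩)

theorem pr_alpha_le_two (r : Rt D) : -2 ≤ pr D R0.α r ∧ pr D R0.α r ≤ 2 := by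
  rcases pr_alpha_bound R0 r with h | h | h
  · rw [h, pr_alpha_self R0]; norm_num
  · rw [h, show pr D R0.α R0.α.rev = -pr D R0.α R0.α by simp [pr, C.A_rev, Finset.sum_neg_distrib], pr_alpha_self R0]
    norm_num
  · omega

theorem eq_alpha_of_pr {r : Rt D} (h : 2 ≤ pr D R0.α r) : r = R0.α := by
  rcases pr_alpha_bound R0 r with h' | h' | h'
  · exact h'
  · rw [h', show pr D R0.α R0.α.rev = -pr D R0.α R0.α by simp [pr, C.A_rev, Finset.sum_neg_distrib], pr_alpha_self R0] at h
    omega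
  · omega

theorem eq_alpha_rev_of_pr {r : Rt D} (h : pr D R0.α r ≤ -2) : r = R0.α.rev := by
  rcases pr_alpha_bound R0 r with h' | h' | h'
  · rw [h', pr_alpha_self R0] at h; omega
  · exact h'
  · omega

/-- No root is a positive combination of the highest root and a root of nonnegative degree. -/
theorem no_combo_alpha {s : Rt D} (hs : s ∈ C.Pos) (q : Rt D) (i j : ℕ) (hi : 1 ≤ i) (hj : 1 ≤ j) :
    C.v q ≠ (i : ℤ) • C.v R0.α + (j : ℤ) • C.v s := by
  intro hv
  have h1 := C.ht_combo hv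
  have h2 : C.ht q ≤ C.ht R0.α := by
    rcases lt_trichotomy q R0.α with hq | hq | hq
    · exact (C.ht_lt hq).le
    · rw [hq]
    · exfalso
      have := Fin.lt_def.1 hq
      have := q.isLt
      simp only [RootCert.α, top] at *
      omega
  have h3 := C.ht_pos hs
  have h4 := C.ht_pos (alpha_pos R0)
  nlinarith [(Int.ofNat_le.mpr hi : ((1 : ℕ) : ℤ) ≤ i), (Int.ofNat_le.mpr hj : ((1 : ℕ) : ℤ) ≤ j)]

theorem no_combo_zero {μ : Rt D} (hμ : pr D R0.α μ = 0) {e : Rt D} (he : e = R0.α ∨ e = R0.α.rev)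
    (q : Rt D) (i j : ℕ) (hi : 1 ≤ i) (hj : 1 ≤ j) : C.v q ≠ (i : ℤ) • C.v μ + (j : ℤ) • C.v e := by
  intro hv
  have hpr := pr_combo C hv R0.α
  rw [hμ, mul_zero, zero_add] at hpr
  have hb := pr_alpha_le_two R0 q
  have hμ0 : C.v μ ≠ 0 := v_ne_zero C μ
  rcases he with rfl | rfl
  · rw [pr_alpha_self R0] at hpr
    obtain rfl := eq_alpha_of_pr R0 (r := q) (by omega)
    have hj1 : j = 1 := by rw [pr_alpha_self R0] at hpr; omega
    subst hj1
    rw [Nat.cast_one, one_smul, eq_comm, add_eq_right] at hv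
    exact (smul_ne_zero (by omega) hμ0) hv
  · rw [show pr D R0.α R0.α.rev = -pr D R0.α R0.α by simp [pr, C.A_rev, Finset.sum_neg_distrib], pr_alpha_self R0] at hpr
    obtain rfl := eq_alpha_rev_of_pr R0 (r := q) (by omega)
    have hj1 : j = 1 := by
      rw [show pr D R0.α R0.α.rev = -pr D R0.α R0.α by simp [pr, C.A_rev, Finset.sum_neg_distrib], pr_alpha_self R0] at hpr
      omega
    subst hj1
    rw [Nat.cast_one, one_smul, eq_comm, add_eq_right] at hv
    exact (smul_ne_zero (by omega) hμ0) hv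

/-- The roots of positive degree. -/
def RootCert.radSet : Set (Rt D) := {r | 0 < pr D R0.α r}

theorem absorb_rad {μ : Rt D} (hμ : 0 ≤ pr D R0.α μ) : C.Absorb μ R0.radSet := by
  refine ⟨fun h => ?_, fun s hs _ q i j hi hj hv => ?_⟩
  · change 0 < pr D R0.α μ.rev at h
    rw [show pr D R0.α μ.rev = -pr D R0.α μ by simp [pr, C.A_rev, Finset.sum_neg_distrib]] at h
    omega
  · show 0 < pr D R0.α q
    rw [pr_combo C hv]
    have : 0 < pr D R0.α s := hs
    have : 0 ≤ (i : ℤ) * pr D R0.α μ := by positivity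
    have : 0 < (j : ℤ) * pr D R0.α s := mul_pos (by omega) (by assumption)
    omega

end Degree

section Radical

variable {C : Core D} (R0 : RootCert C) (H : CommOK C) {F : Type*} [Field F]
include R0

/-- The unipotent radical. -/
def RootCert.Q (F : Type*) [Field F] : Subgroup (GL D.Idx F) := C.US F R0.radSet

theorem X_mem_Q {r : Rt D} (hr : 0 < pr D R0.α r) (t : F) : C.X F r t ∈ R0.Q F := C.X_mem_US F hr t

include H

theorem commute_alpha_pos {u : GL D.Idx F} (hu : u ∈ C.US F C.Pos) (t : F) :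
    Commute u (C.X F R0.α t) := by
  induction hu using Subgroup.closure_induction with
  | mem x hx =>
    obtain ⟨r, hr, a, rfl⟩ := hx
    refine (commute_X H ?_ (no_combo_alpha R0 hr) t a).symm
    intro e
    have h1 := C.ht_pos hr
    have h2 := C.ht_pos (alpha_pos R0)
    rw [e, C.ht_rev] at h1
    omega
  | one => exact Commute.one_left _
  | mul x y _ _ hx hy => exact hx.mul_left hy
  | inv x _ hx => exact hx.inv_left

theorem rad_le_pos : R0.Q F ≤ C.US F C.Pos := C.US_mono F fun r hr => pos_of_pr R0 hr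

theorem commute_alpha_rad {q : GL D.Idx F} (hq : q ∈ R0.Q F) (t : F) : Commute q (C.X F R0.α t) :=
  commute_alpha_pos R0 H (rad_le_pos R0 H hq) t

/-- A root element of degree zero commutes with both extremal root subgroups. -/
theorem commute_zero {μ : Rt D} (hμ : pr D R0.α μ = 0) {e : Rt D} (he : e = R0.α ∨ e = R0.α.rev) (t u : F) :
    Commute (C.X F μ t) (C.X F e u) := by
  refine commute_X H ?_ (no_combo_zero R0 hμ he) t u
  intro h
  have e2 : pr D R0.α μ.rev = 0 := by
    rw [show pr D R0.α μ.rev = -pr D R0.α μ by simp [pr, C.A_rev, Finset.sum_neg_distrib], hμ, neg_zero]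
  rw [← h] at e2
  rcases he with rfl | rfl
  · rw [pr_alpha_self R0] at e2; norm_num at e2
  · rw [show pr D R0.α R0.α.rev = -pr D R0.α R0.α by simp [pr, C.A_rev, Finset.sum_neg_distrib], pr_alpha_self R0] at e2
    norm_num at e2

theorem X_normalizes_Q {μ : Rt D} (hμ : 0 ≤ pr D R0.α μ) (t : F) {q : GL D.Idx F} (hq : q ∈ R0.Q F) :
    C.X F μ t * q * (C.X F μ t)⁻¹ ∈ R0.Q F :=
  (Subgroup.mem_normalizer_iff.1 (H.mem_normalizer (absorb_rad R0 hμ) t) q).1 hq

/-- Conjugating X_{-α} by a positive unipotent element is conjugating it by an element of Q. -/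
theorem exists_rad {u : GL D.Idx F} (hu : u ∈ C.US F C.Pos) :
    ∃ q ∈ R0.Q F, ∀ t : F, u * C.X F R0.α.rev t * u⁻¹ = q * C.X F R0.α.rev t * q⁻¹ := by
  suffices h : ∃ q ∈ R0.Q F, ∃ l, u = q * l ∧ (∀ t : F, Commute l (C.X F R0.α.rev t)) ∧
      ∀ q ∈ R0.Q F, l * q * l⁻¹ ∈ R0.Q F ∧ l⁻¹ * q * l ∈ R0.Q F by
    obtain ⟨q, hq, l, rfl, hl, -⟩ := h
    refine ⟨q, hq, fun t => ?_⟩
    rw [mul_inv_rev, show q * l * C.X F R0.α.rev t * (l⁻¹ * q⁻¹) = q * (l * C.X F R0.α.rev t * l⁻¹) * q⁻¹ by group,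
      (hl t).eq, mul_inv_cancel_right]
  induction hu using Subgroup.closure_induction with
  | mem x hx =>
    obtain ⟨r, hr, a, rfl⟩ := hx
    rcases (pr_alpha_pos R0 hr).eq_or_lt with h | h
    · refine ⟨1, one_mem _, C.X F r a, (one_mul _).symm, fun t => commute_zero R0 H h.symm (Or.inr rfl) a t,
        fun q hq => ⟨X_normalizes_Q R0 H h.le a hq, ?_⟩⟩
      have := X_normalizes_Q R0 H h.le (-a) hq
      rwa [← C.X_inv, inv_inv] at this
    · exact ⟨C.X F r a, X_mem_Q R0 h a, 1, (mul_one _).symm, fun t => Commute.one_left _,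
        fun q hq => ⟨by simpa using hq, by simpa using hq⟩⟩
  | one => exact ⟨1, one_mem _, 1, (one_mul _).symm, fun t => Commute.one_left _, fun q hq => ⟨by simpa using hq, by simpa using hq⟩⟩
  | mul x y _ _ hx hy =>
    obtain ⟨q, hq, l, rfl, hl, hn⟩ := hx
    obtain ⟨q', hq', l', rfl, hl', hn'⟩ := hy
    refine ⟨q * (l * q' * l⁻¹), mul_mem hq (hn q' hq').1, l * l', by group, fun t => (hl t).mul_left (hl' t),
      fun z hz => ⟨?_, ?_⟩⟩
    · rw [show l * l' * z * (l * l')⁻¹ = l * (l' * z * l'⁻¹) * l⁻¹ by group]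
      exact (hn _ (hn' z hz).1).1
    · rw [show (l * l')⁻¹ * z * (l * l') = l'⁻¹ * (l⁻¹ * z * l) * l' by group]
      exact (hn' _ (hn z hz).2).2
  | inv x _ hx =>
    obtain ⟨q, hq, l, rfl, hl, hn⟩ := hx
    refine ⟨l⁻¹ * q⁻¹ * l, (hn _ (inv_mem hq)).2, l⁻¹, by group, fun t => (hl t).inv_left,
      fun z hz => ⟨by simpa using (hn z hz).2, by simpa using (hn z hz).1⟩⟩

theorem pos_col_extremal {u : GL D.Idx F} (hu : u ∈ C.US F C.Pos) (s : Rt D) :
    (u : Matrix D.Idx D.Idx F) (Sum.inr R0.α.rev) (Sum.inr s) = if s = R0.α.rev then 1 else 0 := by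
  have key : ((u : Matrix D.Idx D.Idx F) - 1) (Sum.inr R0.α.rev) (Sum.inr s) = 0 := by
    by_contra h
    have h' := (C.posUS_le_upperU hu).1 _ _ h
    simp only [one_mul, add_zero, Core.fht_inr] at h'
    rw [C.ht_rev] at h'
    have hs : -C.ht R0.α ≤ C.ht s := by
      rcases lt_trichotomy s R0.α.rev with hq | hq | hq
      · exfalso
        rw [Fin.lt_def, Fin.val_rev] at hq
        simp only [RootCert.α, top] at hq
        omega
      · rw [hq, C.ht_rev]
      · exact (C.ht_rev R0.α) ▸ (C.ht_lt hq).le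
    omega
  rw [Matrix.sub_apply, sub_eq_zero] at key
  rw [key, Matrix.one_apply]
  by_cases h : s = R0.α.rev
  · simp [h]
  · simp [h, Ne.symm h]

/-- A conjugate of the highest root subgroup with nonzero extremal coefficient. -/
theorem exists_extremal {h : GL D.Idx F} (hh : h ∈ D.group F)
    (hc : (h : Matrix D.Idx D.Idx F) (Sum.inr R0.α.rev) (Sum.inr R0.α) ≠ 0) :
    ∃ q ∈ R0.Q F, ∀ t : F, h * C.X F R0.α t * h⁻¹ =
      q * C.X F R0.α.rev ((h : Matrix D.Idx D.Idx F) (Sum.inr R0.α.rev) (Sum.inr R0.α) * t) * q⁻¹ := by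
  classical
  obtain ⟨n, hn, hgn⟩ := H.exists_bruhat hh
  obtain ⟨a, ha, b, hb, hab⟩ := DoubleCoset.mem_doubleCoset.1 hgn
  obtain ⟨u, hu, d, hd, rfl⟩ := C.mem_borel_iff.1 ha
  obtain ⟨v, hv, e, he, rfl⟩ := C.mem_borel_iff.1 hb
  obtain ⟨c, rfl⟩ := C.mem_diagonal_iff.1 hd
  obtain ⟨c', rfl⟩ := C.mem_diagonal_iff.1 he
  obtain ⟨c'', L, rfl⟩ := C.exists_word_monomial hn
  have hv1 : Track C v R0.α R0.α := by
    refine ⟨1, one_ne_zero, fun t => by rw [(commute_alpha_pos R0 H hv t).eq, mul_inv_cancel_right, one_mul], ?_⟩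
    rw [one_smul]
    funext x
    rw [Matrix.mulVec_single_one, Matrix.col_apply]
    have key : ((v : Matrix D.Idx D.Idx F) - 1) x (Sum.inr R0.α) = 0 := by
      by_contra hx
      have h' := (C.posUS_le_upperU hv).1 _ _ hx
      simp only [one_mul, add_zero, Core.fht_inr] at h'
      have h4 := C.ht_pos (alpha_pos R0)
      rcases x with x | x
      · rw [C.fht_inl] at h'; omega
      · rw [Core.fht_inr] at h'
        have : R0.α < x := C.lt_of_ht_lt h'
        have := x.isLt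
        rw [Fin.lt_def] at *
        simp only [RootCert.α, top] at *
        omega
    rw [Matrix.sub_apply, sub_eq_zero] at key
    rw [key, Matrix.one_apply, Pi.single_apply]
  set β := C.pprod L R0.α
  have htr : Track C (C.HT F c * (C.HT F c'' * C.wprod F L) * (v * C.HT F c')) R0.α β :=
    ((track_HT C c β).mul C ((track_HT C c'' β).mul C (track_wprod C L R0.α))).mul C
      (hv1.mul C (track_HT C c' R0.α))
  obtain ⟨χ, hχ, hX, hcol⟩ := htr
  set m := C.HT F c * (C.HT F c'' * C.wprod F L) * (v * C.HT F c')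
  have hm : h = u * m := by rw [hab]; simp only [m, mul_assoc]
  have hentry : (h : Matrix D.Idx D.Idx F) (Sum.inr R0.α.rev) (Sum.inr R0.α) =
      if β = R0.α.rev then χ else 0 := by
    have e1 : ((h : Matrix D.Idx D.Idx F) *ᵥ Pi.single (Sum.inr R0.α) 1) (Sum.inr R0.α.rev) =
        (h : Matrix D.Idx D.Idx F) (Sum.inr R0.α.rev) (Sum.inr R0.α) := by
      rw [Matrix.mulVec_single_one]; rfl
    rw [← e1, hm, Units.val_mul, ← Matrix.mulVec_mulVec, hcol, Matrix.mulVec_smul, Pi.smul_apply,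
      Matrix.mulVec_single_one, Matrix.col_apply, pos_col_extremal R0 H hu]
    simp
  have hβ : β = R0.α.rev := by
    by_contra hne
    rw [hentry, if_neg hne] at hc
    exact hc rfl
  rw [hentry, if_pos hβ]
  obtain ⟨q, hq, hqu⟩ := exists_rad R0 H hu
  refine ⟨q, hq, fun t => ?_⟩
  rw [← hqu, hm, mul_inv_rev, show u * m * C.X F R0.α t * (m⁻¹ * u⁻¹) = u * (m * C.X F R0.α t * m⁻¹) * u⁻¹ by group,
    hX, hβ]

theorem exists_z {q : GL D.Idx F} (hq : q ∈ R0.Q F) {v : Rt D} (hv : pr D R0.α v = 1) (t : F) :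
    ∃ z : F, q * C.X F v t * q⁻¹ = C.X F v t * C.X F R0.α z := by
  induction hq using Subgroup.closure_induction with
  | mem x hx =>
    obtain ⟨r, hr, a, rfl⟩ := hx
    by_cases hrv : r = v
    · subst hrv
      exact ⟨0, by rw [C.X_inv, C.X_add, C.X_add, C.X_zero, mul_one, show a + t + -a = t by ring]⟩
    have hne : r ≠ v.rev := by
      intro e
      change 0 < pr D R0.α r at hr
      rw [e, show pr D R0.α v.rev = -pr D R0.α v by simp [pr, C.A_rev, Finset.sum_neg_distrib], hv] at hr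
      omega
    have hterms : ∀ c ∈ D.commTerms v.val r.val, c.1 = R0.α.val := by
      intro c hc
      obtain ⟨w, hw, hi, hj, hcv⟩ := H.terms v r hrv hne c hc
      have e := pr_combo C hcv R0.α
      rw [hv] at e
      have : 0 < pr D R0.α r := hr
      have : 0 < (c.2.2.2 : ℤ) * pr D R0.α r := mul_pos (by omega) (by assumption)
      rw [hw, eq_alpha_of_pr R0 (r := w) (by omega)]
    have hlist : ∀ (l : List (ℕ × ℤ × ℕ × ℕ)) (g : ℕ × ℤ × ℕ × ℕ → F), (∀ c ∈ l, c.1 = R0.α.val) →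
        ∃ z, ((l.map fun c => C.XN F c.1 (g c))).prod = C.X F R0.α z := by
      intro l g hl
      induction l with
      | nil => exact ⟨0, by simp [C.X_zero]⟩
      | cons c l ih =>
        obtain ⟨z, hz⟩ := ih fun c' hc' => hl c' (List.mem_cons_of_mem _ hc')
        exact ⟨g c + z, by rw [List.map_cons, List.prod_cons, hz, hl c (List.mem_cons_self ..), C.XN_fin, C.X_add]⟩
    obtain ⟨z, hz⟩ := hlist _ (fun c => (c.2.1 : F) * (-t) ^ c.2.2.1 * a ^ c.2.2.2) hterms
    refine ⟨z, ?_⟩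
    rw [H.comm_X v r hrv hne t a, hz, mul_assoc (C.X F v t),
      (commute_alpha_rad R0 H (X_mem_Q R0 hr a) z).eq, ← mul_assoc, mul_inv_cancel_right]
  | one => exact ⟨0, by simp [C.X_zero]⟩
  | mul x y hx _ ihx ihy =>
    obtain ⟨z, hz⟩ := ihy
    obtain ⟨z', hz'⟩ := ihx
    refine ⟨z' + z, ?_⟩
    rw [mul_inv_rev, show x * y * C.X F v t * (y⁻¹ * x⁻¹) = x * (y * C.X F v t * y⁻¹) * x⁻¹ by group, hz,
      show x * (C.X F v t * C.X F R0.α z) * x⁻¹ = (x * C.X F v t * x⁻¹) * (x * C.X F R0.α z * x⁻¹) by group,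
      hz', (commute_alpha_rad R0 H hx z).eq, mul_inv_cancel_right, mul_assoc, C.X_add]
  | inv x hx ih =>
    obtain ⟨z, hz⟩ := ih
    refine ⟨-z, ?_⟩
    have e : C.X F v t = x * (C.X F v t * C.X F R0.α (-z)) * x⁻¹ := by
      rw [show x * (C.X F v t * C.X F R0.α (-z)) * x⁻¹ = (x * C.X F v t * x⁻¹) * (x * C.X F R0.α (-z) * x⁻¹) by group,
        hz, (commute_alpha_rad R0 H hx (-z)).eq, mul_inv_cancel_right, mul_assoc, C.X_add, add_neg_cancel,
        C.X_zero, mul_one]
    conv_lhs => rw [e]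
    group

/-- Transport of the conjugate of an element in a degree-one root subgroup. -/
theorem conj_deg_one {q : GL D.Idx F} (hq : q ∈ R0.Q F) {v : Rt D} (hv : pr D R0.α v = 1) (t z : F)
    (h : q * C.X F v t * q⁻¹ = C.X F v t * C.X F R0.α z) :
    q * (C.X F v t * C.X F R0.α (-z)) * q⁻¹ = C.X F v t := by
  rw [show q * (C.X F v t * C.X F R0.α (-z)) * q⁻¹ = (q * C.X F v t * q⁻¹) * (q * C.X F R0.α (-z) * q⁻¹) by group,
    h, (commute_alpha_rad R0 H hq (-z)).eq, mul_inv_cancel_right, mul_assoc, C.X_add, add_neg_cancel,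
    C.X_zero, mul_one]

end Radical

section Bad

/-- A finite overgroup of the root elements over `A`, with no further long root elements, containing a
conjugate of an element of the lowest root subgroup with parameter outside `A`. -/
structure Bad {C : Core D} (R0 : RootCert C) {F : Type*} [Field F] (M : Subgroup (GL D.Idx F))
    (A : Subfield F) (q : GL D.Idx F) (c : F) : Prop where
  finite : Finite M
  mem_root : ∀ r : Rt D, ∀ t ∈ A, C.X F r t ∈ M
  of_mem : ∀ t, C.X F R0.α t ∈ M → t ∈ A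
  q_mem : q ∈ R0.Q F
  c_not_mem : c ∉ A
  y_mem : q * C.X F R0.α.rev c * q⁻¹ ∈ M

variable {C : Core D} {R0 : RootCert C} {F : Type*} [Field F] {M : Subgroup (GL D.Idx F)} {A : Subfield F}
  {q : GL D.Idx F} {c : F}

theorem Bad.one_mem (B : Bad R0 M A q c) (r : Rt D) : C.X F r 1 ∈ M := B.mem_root r 1 A.one_mem

theorem Bad.c_ne_zero (B : Bad R0 M A q c) : c ≠ 0 := fun h => B.c_not_mem (h ▸ A.zero_mem)

/-- The conjugated overgroup. -/
def conjBy (M : Subgroup (GL D.Idx F)) (q : GL D.Idx F) : Subgroup (GL D.Idx F) :=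
  M.comap (MulAut.conj q).toMonoidHom

theorem mem_conjBy {g : GL D.Idx F} : g ∈ conjBy M q ↔ q * g * q⁻¹ ∈ M := Iff.rfl

theorem Bad.finite_conjBy (B : Bad R0 M A q c) : Finite (conjBy M q) := by
  haveI := B.finite
  exact Finite.of_injective (fun g : conjBy M q => (⟨q * g * q⁻¹, g.2⟩ : M)) fun a b h =>
    Subtype.ext (by simpa using congrArg Subtype.val h)

theorem Bad.alpha_mem (H : CommOK C) (B : Bad R0 M A q c) {t : F} :
    C.X F R0.α t ∈ conjBy M q ↔ t ∈ A := by
  rw [mem_conjBy, (commute_alpha_rad R0 H B.q_mem t).eq, mul_inv_cancel_right]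
  exact ⟨B.of_mem t, B.mem_root _ t⟩

theorem Bad.transfer (H : CommOK C) (B : Bad R0 M A q c) {m : GL D.Idx F} (hm : m ∈ M) {e : F} (he : e ≠ 0)
    (hc : ∀ t : F, m * C.X F R0.α.rev t * m⁻¹ = C.X F R0.α.rev (e * t)) (heA : e ∈ A)
    (hQ : m * q * m⁻¹ ∈ R0.Q F) : Bad R0 M A (m * q * m⁻¹) (e * c) where
  finite := B.finite
  mem_root := B.mem_root
  of_mem := B.of_mem
  q_mem := hQ
  c_not_mem h := B.c_not_mem (by have := mul_mem (inv_mem heA) h; rwa [inv_mul_cancel_left₀ he] at this)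
  y_mem := by
    have := mul_mem (mul_mem hm B.y_mem) (inv_mem hm)
    convert this using 1
    rw [← hc]
    group

end Bad

end Cfsg.Agent.Lib.SubfieldChev49
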