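import Cfsg.Agent.Lib.SubfieldChev49.Extremal

/-!
Long root lines in degree one: a finite overgroup with an irrational extremal coefficient contains an
irrational element in the product of two degree-one root subgroups and the highest one.
-/

set_option autoImplicit false
set_option linter.unusedSectionVars false
set_option linter.style.haveILetI false
set_option linter.unusedVariables false

namespace Cfsg.Agent.Lib.SubfieldChev49

open Cfsg.Lie Cfsg.Agent.Lib.ChevStructure Cfsg.Agent.Lib.RootPairs.LongPair Cfsg.Agent.Lib.RootPairs.Main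
open scoped MatrixGroups Matrix

variable {D : ChevalleyDatum}

/-- A long line `v, v - α` with partner `δ = α - v`, and a further root `r` commuting with it. -/
structure LineData (C : Core D) (R0 : RootCert C) (v w δ r : Rt D) : Prop where
  pv : pr D R0.α v = 1
  pδ : pr D R0.α δ = 1
  pr_r : pr D R0.α r = 1
  d_vδ : δ ≠ v ∧ δ ≠ v.rev ∧ (D.commTerms v.val δ.val = [(R0.α.val, 1, 1, 1)] ∨
    D.commTerms v.val δ.val = [(R0.α.val, -1, 1, 1)])
  d_vy : R0.α.rev ≠ v ∧ R0.α.rev ≠ v.rev ∧ (D.commTerms v.val R0.α.rev.val = [(w.val, 1, 1, 1)] ∨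
    D.commTerms v.val R0.α.rev.val = [(w.val, -1, 1, 1)])
  d_wa : R0.α ≠ w ∧ R0.α ≠ w.rev ∧ (D.commTerms w.val R0.α.val = [(v.val, 1, 1, 1)] ∨
    D.commTerms w.val R0.α.val = [(v.val, -1, 1, 1)])
  d_yw : w ≠ R0.α.rev ∧ w ≠ R0.α.rev.rev ∧ D.commTerms R0.α.rev.val w.val = []
  d_vw : w ≠ v ∧ w ≠ v.rev ∧ D.commTerms v.val w.val = []
  d_rv : v ≠ r ∧ v ≠ r.rev ∧ D.commTerms r.val v.val = []
  d_rw : w ≠ r ∧ w ≠ r.rev ∧ D.commTerms r.val w.val = []

section

variable {C : Core D} {R0 : RootCert C} (H : CommOK C) {F : Type*} [Field F] {M : Subgroup (GL D.Idx F)}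
  {A : Subfield F} {q : GL D.Idx F} {c : F} {v w δ r : Rt D} (Dt : LineData C R0 v w δ r)
include H Dt

theorem conj_delta (t : F) : ∃ e : F, (e = 1 ∨ e = -1) ∧
    C.X F δ 1 * C.X F v t * (C.X F δ 1)⁻¹ = C.X F v t * C.X F R0.α (e * t) := by
  obtain ⟨h1, h2, h | h⟩ := Dt.d_vδ
  · refine ⟨-1, Or.inr rfl, ?_⟩
    rw [X_conj_single H h1 h2 h (fun a b => commute_alpha_rad R0 H (X_mem_Q R0 (Dt.pδ ▸ one_pos) a) b)]
    simp
  · refine ⟨1, Or.inl rfl, ?_⟩
    rw [X_conj_single H h1 h2 h (fun a b => commute_alpha_rad R0 H (X_mem_Q R0 (Dt.pδ ▸ one_pos) a) b)]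
    simp

theorem line_mem (B : Bad R0 M A q c) {a b : F} (h : C.X F v b * C.X F R0.α a ∈ M) : b ∈ A := by
  obtain ⟨e, he, hd⟩ := conj_delta H Dt b
  have hδα : Commute (C.X F δ 1) (C.X F R0.α a) := commute_alpha_rad R0 H (X_mem_Q R0 (Dt.pδ ▸ one_pos) 1) a
  have h' := mul_mem (inv_mem h) (mul_mem (mul_mem (B.one_mem δ) h) (inv_mem (B.one_mem δ)))
  rw [show C.X F δ 1 * (C.X F v b * C.X F R0.α a) * (C.X F δ 1)⁻¹ =
      (C.X F δ 1 * C.X F v b * (C.X F δ 1)⁻¹) * (C.X F δ 1 * C.X F R0.α a * (C.X F δ 1)⁻¹) by group,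
    hd, hδα.eq, mul_inv_cancel_right, mul_assoc (C.X F v b), C.X_add, mul_inv_rev, C.X_inv, C.X_inv,
    mul_assoc, ← mul_assoc (C.X F v (-b)), C.X_add, neg_add_cancel, C.X_zero, one_mul, C.X_add,
    show -a + (e * b + a) = e * b by ring] at h'
  have := B.of_mem _ h'
  rcases he with rfl | rfl
  · simpa using this
  · simpa using neg_mem this

theorem conj_y (t a : F) : ∃ e : F, (e = 1 ∨ e = -1) ∧
    C.X F R0.α.rev t * C.X F v a * (C.X F R0.α.rev t)⁻¹ = C.X F v a * C.X F w (e * a * t) := by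
  obtain ⟨h1, h2, h | h⟩ := Dt.d_vy
  · exact ⟨-1, Or.inr rfl, by
      rw [X_conj_single H h1 h2 h (fun x y => commute_nil H Dt.d_yw.1 Dt.d_yw.2.1 Dt.d_yw.2.2 x y)]; simp⟩
  · exact ⟨1, Or.inl rfl, by
      rw [X_conj_single H h1 h2 h (fun x y => commute_nil H Dt.d_yw.1 Dt.d_yw.2.1 Dt.d_yw.2.2 x y)]; simp⟩

theorem conj_a (t b : F) : ∃ e : F, (e = 1 ∨ e = -1) ∧
    C.X F R0.α t * C.X F w b * (C.X F R0.α t)⁻¹ = C.X F w b * C.X F v (e * b * t) := by
  have hc : ∀ x y : F, Commute (C.X F R0.α x) (C.X F v y) := fun x y =>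
    (commute_alpha_rad R0 H (X_mem_Q R0 (Dt.pv ▸ one_pos) y) x).symm
  obtain ⟨h1, h2, h | h⟩ := Dt.d_wa
  · exact ⟨-1, Or.inr rfl, by rw [X_conj_single H h1 h2 h hc]; simp⟩
  · exact ⟨1, Or.inl rfl, by rw [X_conj_single H h1 h2 h hc]; simp⟩

/-- A pure line element in the conjugated overgroup is impossible. -/
theorem not_pure (B : Bad R0 M A q c) : C.X F v 1 ∉ conjBy M q := by
  intro hp
  have hy : C.X F R0.α.rev c ∈ conjBy M q := B.y_mem
  obtain ⟨e, he, h1⟩ := conj_y H Dt c 1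
  have hw : C.X F w (e * 1 * c) ∈ conjBy M q := by
    have := mul_mem (inv_mem hp) (mul_mem (mul_mem hy hp) (inv_mem hy))
    rwa [h1, inv_mul_cancel_left] at this
  obtain ⟨e', he', h2⟩ := conj_a H Dt 1 (e * 1 * c)
  have hv : C.X F v (e' * (e * 1 * c) * 1) ∈ conjBy M q := by
    have ha := (B.alpha_mem H).2 A.one_mem
    have := mul_mem (inv_mem hw) (mul_mem (mul_mem ha hw) (inv_mem ha))
    rwa [h2, inv_mul_cancel_left] at this
  obtain ⟨z, hz⟩ := exists_z R0 H B.q_mem Dt.pv (e' * (e * 1 * c) * 1)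
  have hm := mem_conjBy.1 hv
  rw [hz] at hm
  have := line_mem H Dt B hm
  apply B.c_not_mem
  rcases he with rfl | rfl <;> rcases he' with rfl | rfl <;> simpa using this

/-- The two root subgroups of the line. -/
theorem comm_line {n : GL D.Idx F} (hn : n ∈ C.US F ({v, w} : Set (Rt D))) {s : Rt D} (hs : s = v ∨ s = w) (t : F) :
    Commute n (C.X F s t) := by
  induction hn using Subgroup.closure_induction with
  | mem x hx =>
    obtain ⟨a, ha, u, rfl⟩ := hx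
    have hvw : ∀ x y : F, Commute (C.X F v x) (C.X F w y) := fun x y => commute_nil H Dt.d_vw.1 Dt.d_vw.2.1 Dt.d_vw.2.2 x y
    have hsame : ∀ (a : Rt D) (x y : F), Commute (C.X F a x) (C.X F a y) := fun a x y => by
      show _ = _; rw [C.X_add, C.X_add, add_comm]
    rcases ha with rfl | rfl <;> rcases hs with rfl | rfl
    · exact hsame _ _ _
    · exact hvw _ _
    · exact (hvw _ _).symm
    · exact hsame _ _ _
  | one => exact Commute.one_left _
  | mul x y _ _ hx hy => exact hx.mul_left hy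
  | inv x _ hx => exact hx.inv_left

theorem comm_r {n : GL D.Idx F} (hn : n ∈ C.US F ({v, w} : Set (Rt D))) (t : F) :
    Commute n (C.X F r t) := by
  induction hn using Subgroup.closure_induction with
  | mem x hx =>
    obtain ⟨a, ha, u, rfl⟩ := hx
    rcases ha with rfl | rfl
    · exact (commute_nil H Dt.d_rv.1 Dt.d_rv.2.1 Dt.d_rv.2.2 t u).symm
    · exact (commute_nil H Dt.d_rw.1 Dt.d_rw.2.1 Dt.d_rw.2.2 t u).symm
  | one => exact Commute.one_left _
  | mul x y _ _ hx hy => exact hx.mul_left hy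
  | inv x _ hx => exact hx.inv_left

theorem line_conj_alpha {n : GL D.Idx F} (hn : n ∈ C.US F ({v, w} : Set (Rt D))) (t : F) :
    ∃ ε : F, n * C.X F R0.α t * n⁻¹ = C.X F R0.α t * C.X F v ε := by
  have hc : ∀ x y : F, Commute (C.X F R0.α x) (C.X F v y) := fun x y =>
    (commute_alpha_rad R0 H (X_mem_Q R0 (Dt.pv ▸ one_pos) y) x).symm
  induction hn using Subgroup.closure_induction with
  | mem x hx =>
    obtain ⟨a, ha, u, rfl⟩ := hx
    rcases ha with rfl | rfl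
    · exact ⟨0, by rw [← (hc t u).eq, mul_inv_cancel_right, C.X_zero, mul_one]⟩
    · obtain ⟨e, -, h⟩ := conj_a H Dt t (-u)
      refine ⟨e * (-u) * t, ?_⟩
      have h' := congrArg (fun g => C.X F a u * g * C.X F R0.α t) h
      simp only [← C.X_inv, mul_assoc, inv_mul_cancel, mul_one, mul_inv_cancel_left] at h'
      rw [← (hc t _).eq] at h'
      simpa only [mul_assoc] using h'
  | one => exact ⟨0, by simp [C.X_zero]⟩
  | mul x y hx _ ihx ihy =>
    obtain ⟨e, he⟩ := ihy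
    obtain ⟨e', he'⟩ := ihx
    refine ⟨e' + e, ?_⟩
    rw [mul_inv_rev, show x * y * C.X F R0.α t * (y⁻¹ * x⁻¹) = x * (y * C.X F R0.α t * y⁻¹) * x⁻¹ by group, he,
      show x * (C.X F R0.α t * C.X F v e) * x⁻¹ = (x * C.X F R0.α t * x⁻¹) * (x * C.X F v e * x⁻¹) by group,
      he', (comm_line H Dt hx (Or.inl rfl) e).eq, mul_inv_cancel_right, mul_assoc, C.X_add]
  | inv x hx ih =>
    obtain ⟨e, he⟩ := ih
    refine ⟨-e, ?_⟩
    have e1 : C.X F R0.α t = x * (C.X F R0.α t * C.X F v (-e)) * x⁻¹ := by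
      rw [show x * (C.X F R0.α t * C.X F v (-e)) * x⁻¹ = (x * C.X F R0.α t * x⁻¹) * (x * C.X F v (-e) * x⁻¹) by group,
        he, (comm_line H Dt hx (Or.inl rfl) (-e)).eq, mul_inv_cancel_right, mul_assoc, C.X_add, add_neg_cancel,
        C.X_zero, mul_one]
    conv_lhs => rw [e1]
    group

omit Dt in
theorem sl_closure (S : Submonoid (Matrix.SpecialLinearGroup (Fin 2) F)) (hU : ∀ t, slU t ∈ S) (hL : ∀ t, slL t ∈ S)
    (g : Matrix.SpecialLinearGroup (Fin 2) F) : g ∈ S := by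
  by_cases h : (g : Matrix (Fin 2) (Fin 2) F) 1 0 = 0
  · obtain ⟨a, u, -, rfl⟩ := sl_upper g h
    have hN : ∀ u : Fˣ, slN u ∈ S := fun u => mul_mem (mul_mem (hU _) (hL _)) (hU _)
    exact mul_mem (hU a) (mul_mem (hN u) (hN (-1)))
  · obtain ⟨a, b, e⟩ := sl_lower g h
    rw [e]
    exact mul_mem (mul_mem (hU a) (hL _)) (hU b)

theorem phi_normalizes (g : Matrix.SpecialLinearGroup (Fin 2) F) {n : GL D.Idx F}
    (hn : n ∈ C.US F ({v, w} : Set (Rt D))) :
    phi C F R0.α g * n * (phi C F R0.α g)⁻¹ ∈ C.US F ({v, w} : Set (Rt D)) := by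
  set N := C.US F ({v, w} : Set (Rt D))
  let S : Submonoid (Matrix.SpecialLinearGroup (Fin 2) F) :=
    { carrier := {g | ∀ n ∈ N, phi C F R0.α g * n * (phi C F R0.α g)⁻¹ ∈ N}
      one_mem' := fun n hn => by simpa using hn
      mul_mem' := fun {a b} ha hb n hn => by
        rw [map_mul, show phi C F R0.α a * phi C F R0.α b * n * (phi C F R0.α a * phi C F R0.α b)⁻¹ =
          phi C F R0.α a * (phi C F R0.α b * n * (phi C F R0.α b)⁻¹) * (phi C F R0.α a)⁻¹ by group]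
        exact ha _ (hb n hn) }
  have hgen : ∀ g : GL D.Idx F, (∀ s, s = v ∨ s = w → ∀ t, g * C.X F s t * g⁻¹ ∈ N) → ∀ n ∈ N, g * n * g⁻¹ ∈ N := by
    intro g hg n hn
    have hle : N ≤ N.comap (MulAut.conj g).toMonoidHom := by
      refine (Subgroup.closure_le _).2 ?_
      rintro x ⟨s, hs, t, rfl⟩
      exact hg s hs t
    exact hle hn
  refine sl_closure H S (fun t => ?_) (fun t => ?_) g n hn
  · intro n hn
    rw [phi_U]
    refine hgen _ (fun s hs u => ?_) n hn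
    rcases hs with rfl | rfl
    · rw [← (commute_alpha_rad R0 H (X_mem_Q R0 (Dt.pv ▸ one_pos) u) t).eq, mul_inv_cancel_right]
      exact C.X_mem_US F (Or.inl rfl) u
    · obtain ⟨e, -, h⟩ := conj_a H Dt t u
      rw [h]
      exact mul_mem (C.X_mem_US F (Or.inr rfl) _) (C.X_mem_US F (Or.inl rfl) _)
  · intro n hn
    rw [phi_L]
    refine hgen _ (fun s hs u => ?_) n hn
    rcases hs with rfl | rfl
    · obtain ⟨e, -, h⟩ := conj_y H Dt t u
      rw [h]
      exact mul_mem (C.X_mem_US F (Or.inl rfl) _) (C.X_mem_US F (Or.inr rfl) _)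
    · rw [(commute_nil H Dt.d_yw.1 Dt.d_yw.2.1 Dt.d_yw.2.2 t u).eq, mul_inv_cancel_right]
      exact C.X_mem_US F (Or.inr rfl) u

theorem eq_one_of_phi_mem {g : Matrix.SpecialLinearGroup (Fin 2) F}
    (hg : phi C F R0.α g ∈ C.US F ({v, w} : Set (Rt D))) : g = 1 := by
  have hfix : ∀ s, s = v ∨ s = w → ∀ t, phi C F R0.α g * C.X F s t * (phi C F R0.α g)⁻¹ = C.X F s t :=
    fun s hs t => by rw [(comm_line H Dt hg hs t).eq, mul_inv_cancel_right]
  have hαv : ∀ x y : F, Commute (C.X F R0.α x) (C.X F v y) := fun x y =>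
    (commute_alpha_rad R0 H (X_mem_Q R0 (Dt.pv ▸ one_pos) y) x).symm
  by_cases h : (g : Matrix (Fin 2) (Fin 2) F) 1 0 = 0
  · obtain ⟨a, u, -, rfl⟩ := sl_upper g h
    rw [map_mul, phi_U, phi_H] at hfix
    have h1 := hfix v (Or.inl rfl) 1
    rw [mul_inv_rev, show C.X F R0.α a * Core.hD F R0.α u * C.X F v 1 * ((Core.hD F R0.α u)⁻¹ * (C.X F R0.α a)⁻¹) =
      C.X F R0.α a * (Core.hD F R0.α u * C.X F v 1 * (Core.hD F R0.α u)⁻¹) * (C.X F R0.α a)⁻¹ by group,
      C.hD_X, mul_inv_cancel_right, Dt.pv, zpow_one, mul_one, (hαv a _).eq, mul_inv_cancel_right] at h1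
    have hu : u = 1 := Units.ext (X_inj C h1)
    subst hu
    have h2 := hfix w (Or.inr rfl) 1
    rw [show Core.hD F R0.α (1 : Fˣ) = 1 by rw [← C.gH_snd, C.gH_one]; rfl, mul_one] at h2
    obtain ⟨e, he, h3⟩ := conj_a H Dt a 1
    rw [h3, mul_eq_left] at h2
    have h4 : e * 1 * a = 0 := X_inj C (h2.trans (C.X_zero F v).symm)
    have ha : a = 0 := by rcases he with rfl | rfl <;> simpa using h4
    refine Subtype.ext ?_
    simp [ha, Matrix.SpecialLinearGroup.coe_mul, slH_val, Matrix.one_fin_two]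
  · exfalso
    obtain ⟨a, b, e⟩ := sl_lower g h
    set k := (g : Matrix (Fin 2) (Fin 2) F) 1 0
    have h1 := hfix v (Or.inl rfl) 1
    rw [e, map_mul, map_mul, phi_U, phi_U, phi_L, mul_inv_rev, mul_inv_rev,
      show C.X F R0.α a * C.X F R0.α.rev k * C.X F R0.α b * C.X F v 1 *
        ((C.X F R0.α b)⁻¹ * ((C.X F R0.α.rev k)⁻¹ * (C.X F R0.α a)⁻¹)) =
      C.X F R0.α a * (C.X F R0.α.rev k * (C.X F R0.α b * C.X F v 1 * (C.X F R0.α b)⁻¹) * (C.X F R0.α.rev k)⁻¹) *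
        (C.X F R0.α a)⁻¹ by group,
      (hαv b 1).eq, mul_inv_cancel_right] at h1
    obtain ⟨s, hs, h2⟩ := conj_y H Dt k 1
    rw [h2] at h1
    obtain ⟨s', -, h3⟩ := conj_a H Dt a (s * 1 * k)
    rw [show C.X F R0.α a * (C.X F v 1 * C.X F w (s * 1 * k)) * (C.X F R0.α a)⁻¹ =
      (C.X F R0.α a * C.X F v 1 * (C.X F R0.α a)⁻¹) * (C.X F R0.α a * C.X F w (s * 1 * k) * (C.X F R0.α a)⁻¹) by group,
      (hαv a 1).eq, mul_inv_cancel_right, h3, mul_eq_left, mul_eq_one_iff_eq_inv, C.X_inv] at h1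
    have := C.X_eq_X F h1 Dt.d_vw.1
    apply h
    rcases hs with rfl | rfl <;> simpa using this

/-- The subgroup of SL(2) induced by the conjugated overgroup on the line. -/
def lineGamma (M : Subgroup (GL D.Idx F)) (q : GL D.Idx F) : Subgroup (Matrix.SpecialLinearGroup (Fin 2) F) where
  carrier := {g | ∃ n ∈ C.US F ({v, w} : Set (Rt D)), phi C F R0.α g * n ∈ conjBy M q}
  one_mem' := ⟨1, one_mem _, by rw [map_one, mul_one]; exact one_mem _⟩
  mul_mem' := by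
    rintro g g' ⟨n, hn, h⟩ ⟨n', hn', h'⟩
    have hc := phi_normalizes H Dt g'⁻¹ hn
    rw [map_inv, inv_inv] at hc
    refine ⟨_, mul_mem hc hn', ?_⟩
    convert mul_mem h h' using 1
    rw [map_mul]
    group
  inv_mem' := by
    rintro g ⟨n, hn, h⟩
    refine ⟨_, phi_normalizes H Dt g (inv_mem hn), ?_⟩
    convert inv_mem h using 1
    rw [map_inv]
    group

theorem finite_lineGamma [Finite (conjBy M q)] : Finite (lineGamma H Dt M q) := by
  refine Finite.of_injective (fun g : lineGamma H Dt M q => (⟨phi C F R0.α g * g.2.choose, g.2.choose_spec.2⟩ : conjBy M q))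
    fun a b h => ?_
  have e : phi C F R0.α a * a.2.choose = phi C F R0.α b * b.2.choose := congrArg Subtype.val h
  have : phi C F R0.α ((b : Matrix.SpecialLinearGroup (Fin 2) F)⁻¹ * a) = b.2.choose * a.2.choose⁻¹ := by
    rw [map_mul, map_inv, eq_mul_inv_iff_mul_eq, mul_assoc, e, inv_mul_cancel_left]
  have h1 := eq_one_of_phi_mem H Dt (this ▸ mul_mem b.2.choose_spec.1 (inv_mem a.2.choose_spec.1))
  exact (Subtype.ext (inv_mul_eq_one.1 h1)).symm

/-- An irrational element in X_r X_v X_α. -/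
theorem exists_irrational (p : ℕ) [Fact p.Prime] [CharP F p] (B : Bad R0 M A q c) :
    ∃ τ ε f : F, τ ∉ A ∧ C.X F r τ * C.X F v ε * C.X F R0.α f ∈ M := by
  classical
  haveI := B.finite_conjBy
  haveI := finite_lineGamma (H := H) (Dt := Dt) (M := M) (q := q)
  haveI := B.finite
  set Γ := lineGamma H Dt M q
  have hA : ∀ t ∈ A, slU t ∈ Γ := fun t ht =>
    ⟨1, one_mem _, by rw [phi_U, mul_one]; exact (B.alpha_mem H).2 ht⟩
  have hL : slL c ∈ Γ := ⟨1, one_mem _, by rw [phi_L, mul_one]; exact B.y_mem⟩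
  obtain ⟨z, hz⟩ := exists_z R0 H B.q_mem Dt.pv 1
  have hzA : z ∉ A := by
    intro hzA
    refine not_pure H Dt B (mem_conjBy.2 ?_)
    rw [hz]
    exact mul_mem (B.one_mem v) (B.mem_root _ z hzA)
  have hzΓ : slU (-z) ∈ Γ := by
    refine ⟨C.X F v 1, C.X_mem_US F (Or.inl rfl) 1, mem_conjBy.2 ?_⟩
    rw [phi_U, ← (commute_alpha_rad R0 H (X_mem_Q R0 (Dt.pv ▸ one_pos) 1) (-z)).eq,
      conj_deg_one R0 H B.q_mem Dt.pv 1 z hz]
    exact B.one_mem v
  have hT : ∀ a ∈ A, ∀ i : Fin 2, a + (i.val : F) * z ∈ Sl2.uSet Γ := by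
    intro a ha i
    have hzT : z ∈ Sl2.uSet Γ := by simpa using neg_mem (Sl2.mem_uSet.2 hzΓ)
    have haT : a ∈ Sl2.uSet Γ := hA a ha
    fin_cases i
    · simpa using haT
    · simpa using add_mem haT hzT
  haveI : Finite (Sl2.uSet Γ) := Finite.of_injective (fun t => (⟨slU t, t.2⟩ : Γ)) fun a b h =>
    Subtype.ext (by simpa using congrFun (congrFun (congrArg (fun g : Γ => ((g : Matrix.SpecialLinearGroup (Fin 2) F) : Matrix (Fin 2) (Fin 2) F)) h) 0) 1)
  have h4 : 4 ≤ Nat.card (Sl2.uSet Γ) := by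
    let f : Fin 2 × Fin 2 → Sl2.uSet Γ := fun x => ⟨(x.1.val : F) + (x.2.val : F) * z, hT _ (natCast_mem A _) x.2⟩
    have hf : Function.Injective f := by
      rintro ⟨i, j⟩ ⟨i', j'⟩ h
      have e : (i.val : F) + (j.val : F) * z = (i'.val : F) + (j'.val : F) * z := congrArg Subtype.val h
      have hij : ∀ x y : Fin 2, (x.val : F) = (y.val : F) → x = y := by
        intro x y hxy
        fin_cases x <;> fin_cases y <;> simp at hxy ⊢
      rcases eq_or_ne j j' with rfl | hj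
      · rw [add_right_cancel_iff] at e
        rw [hij i i' e]
      · exfalso
        apply hzA
        have hne : (j.val : F) - (j'.val : F) ≠ 0 := sub_ne_zero.2 fun h => hj (hij _ _ h)
        have hzeq : z = ((i'.val : F) - (i.val : F)) / ((j.val : F) - (j'.val : F)) := by
          rw [eq_div_iff hne]; linear_combination e
        rw [hzeq]
        exact div_mem (sub_mem (natCast_mem A _) (natCast_mem A _)) (sub_mem (natCast_mem A _) (natCast_mem A _))
    simpa using Nat.card_le_card_of_injective f hf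
  obtain ⟨-, -, hgen⟩ := Sl2.param_field p Γ B.c_ne_zero (hA 1 A.one_mem) hL h4
  obtain ⟨W, hW, h10, hτ⟩ : ∃ W ∈ Γ, (W : Matrix (Fin 2) (Fin 2) F) 1 0 = 0 ∧
      (W : Matrix (Fin 2) (Fin 2) F) 0 0 ∉ A := by
    by_contra hne
    push Not at hne
    refine hzA ?_
    simpa using hgen A hne z (by simpa using neg_mem (Sl2.mem_uSet.2 hzΓ))
  obtain ⟨a, u, hu, rfl⟩ := sl_upper W h10
  obtain ⟨n, hn, hw⟩ := hW
  obtain ⟨e, he⟩ := exists_z R0 H B.q_mem Dt.pr_r 1
  have hX : C.X F r 1 * C.X F R0.α (-e) ∈ conjBy M q := by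
    rw [mem_conjBy, conj_deg_one R0 H B.q_mem Dt.pr_r 1 e he]
    exact B.one_mem r
  have hconj := mul_mem (mul_mem hw hX) (inv_mem hw)
  obtain ⟨ε, hε⟩ := line_conj_alpha H Dt hn (-e)
  have hαQ : ∀ (x : F) {g : GL D.Idx F}, g ∈ R0.Q F → C.X F R0.α x * g * (C.X F R0.α x)⁻¹ = g := fun x g hg => by
    rw [← (commute_alpha_rad R0 H hg x).eq, mul_inv_cancel_right]
  rw [map_mul, phi_U, phi_H, mul_inv_rev, mul_inv_rev,
    show C.X F R0.α a * Core.hD F R0.α u * n * (C.X F r 1 * C.X F R0.α (-e)) *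
        (n⁻¹ * ((Core.hD F R0.α u)⁻¹ * (C.X F R0.α a)⁻¹)) =
      C.X F R0.α a * ((Core.hD F R0.α u * (n * C.X F r 1 * n⁻¹) * (Core.hD F R0.α u)⁻¹) *
        (Core.hD F R0.α u * (n * C.X F R0.α (-e) * n⁻¹) * (Core.hD F R0.α u)⁻¹)) * (C.X F R0.α a)⁻¹ by group,
    (comm_r H Dt hn 1).eq, mul_inv_cancel_right, hε,
    show Core.hD F R0.α u * (C.X F R0.α (-e) * C.X F v ε) * (Core.hD F R0.α u)⁻¹ =
      (Core.hD F R0.α u * C.X F R0.α (-e) * (Core.hD F R0.α u)⁻¹) *
        (Core.hD F R0.α u * C.X F v ε * (Core.hD F R0.α u)⁻¹) by group,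
    C.hD_X, C.hD_X, C.hD_X, mul_inv_cancel_right, mul_inv_cancel_right, mul_inv_cancel_right, Dt.pr_r, Dt.pv,
    zpow_one, mul_one] at hconj
  generalize ((u ^ pr D R0.α R0.α : Fˣ) : F) * -e = f0 at hconj
  generalize (u : F) * ε = ε' at hconj
  rw [hαQ a (mul_mem (X_mem_Q R0 (Dt.pr_r ▸ one_pos) _) (mul_mem (X_mem_Q R0 (by rw [pr_alpha_self R0]; norm_num) _)
    (X_mem_Q R0 (Dt.pv ▸ one_pos) _)))] at hconj
  obtain ⟨z1, hz1⟩ := exists_z R0 H B.q_mem Dt.pr_r (u : F)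
  obtain ⟨z2, hz2⟩ := exists_z R0 H B.q_mem Dt.pv ε'
  have hm := mem_conjBy.1 hconj
  rw [show q * (C.X F r (u : F) * (C.X F R0.α f0 * C.X F v ε')) * q⁻¹ =
    (q * C.X F r (u : F) * q⁻¹) * ((q * C.X F R0.α f0 * q⁻¹) * (q * C.X F v ε' * q⁻¹)) by group,
    hz1, hz2, (commute_alpha_rad R0 H B.q_mem f0).eq, mul_inv_cancel_right] at hm
  refine ⟨u, ε', z1 + f0 + z2, hu ▸ hτ, ?_⟩
  convert hm using 1
  have hc : ∀ x : F, Commute (C.X F R0.α x) (C.X F v ε') := fun x =>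
    (commute_alpha_rad R0 H (X_mem_Q R0 (Dt.pv ▸ one_pos) ε') x).symm
  rw [← C.X_add, ← C.X_add]
  simp only [mul_assoc]
  rw [← mul_assoc (C.X F R0.α f0) (C.X F v ε'), (hc f0).eq, mul_assoc (C.X F v ε'),
    ← mul_assoc (C.X F R0.α z1) (C.X F v ε'), (hc z1).eq, mul_assoc (C.X F v ε')]

/-- The conclusion when a partner of `r` has an invertible structure constant. -/
theorem false_of_partner (p : ℕ) [Fact p.Prime] [CharP F p] (B : Bad R0 M A q c) {r' : Rt D} {m : ℤ}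
    (hr' : pr D R0.α r' = 1) (h1 : r' ≠ r) (h2 : r' ≠ r.rev) (hterm : D.commTerms r.val r'.val = [(R0.α.val, m, 1, 1)])
    (h3 : r' ≠ v) (h4 : r' ≠ v.rev) (hnil : D.commTerms v.val r'.val = []) (hm : (m : F) ≠ 0) : False := by
  obtain ⟨τ, ε, f, hτ, hE⟩ := exists_irrational H Dt p B
  have hα : ∀ a b : F, Commute (C.X F r' a) (C.X F R0.α b) := fun a b =>
    commute_alpha_rad R0 H (X_mem_Q R0 (hr' ▸ one_pos) a) b
  have h' := mul_mem (mul_mem (B.one_mem r') hE) (inv_mem (B.one_mem r'))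
  rw [show C.X F r' 1 * (C.X F r τ * C.X F v ε * C.X F R0.α f) * (C.X F r' 1)⁻¹ =
    (C.X F r' 1 * C.X F r τ * (C.X F r' 1)⁻¹) * (C.X F r' 1 * C.X F v ε * (C.X F r' 1)⁻¹) *
      (C.X F r' 1 * C.X F R0.α f * (C.X F r' 1)⁻¹) by group,
    X_conj_single H h1 h2 hterm hα, ← (commute_nil H h3 h4 hnil ε 1).eq, mul_inv_cancel_right,
    (hα 1 f).eq, mul_inv_cancel_right] at h'
  set g := C.X F R0.α (-(m : F) * τ * 1)
  have hg : g ∈ M := by
    have hgv : Commute g (C.X F v ε) := (commute_alpha_rad R0 H (X_mem_Q R0 (Dt.pv ▸ one_pos) ε) _).symm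
    have hgα : Commute g (C.X F R0.α f) := by show _ = _; simp only [g, C.X_add, add_comm]
    have := mul_mem (inv_mem hE) h'
    rw [show C.X F r τ * g * C.X F v ε = C.X F r τ * C.X F v ε * g by rw [mul_assoc, hgv.eq, ← mul_assoc],
      mul_assoc _ g, hgα.eq] at this
    convert this using 1
    group
  have := B.of_mem _ hg
  apply hτ
  have h5 := neg_mem this
  simp only [mul_one, neg_mul, neg_neg] at h5
  have := mul_mem (inv_mem (intCast_mem A m)) h5
  rwa [inv_mul_cancel_left₀ hm] at this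

end

end Cfsg.Agent.Lib.SubfieldChev49
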