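import Cfsg.Agent.Lib.SubfieldChev49.Certs
import Cfsg.Agent.Lib.SubfieldChev49.B2
import Cfsg.Agent.Lib.ChevStructure.Perfect
import Cfsg.Agent.Lib.DicksonFull.Subfield

/-!
Finite overgroups of the integral root elements in the Chevalley groups of types G2, B2, D4, F4, E6,
E7, E8: the long root parameters form a finite field, all root subgroups over it are inside, and all
matrix entries lie in it.
-/

set_option autoImplicit false
set_option linter.unusedSectionVars false
set_option linter.style.haveILetI false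
set_option linter.unusedVariables false
set_option maxRecDepth 100000

namespace Cfsg.Agent.Lib.SubfieldChev49

open Cfsg.Lie Cfsg.Agent.Lib.ChevStructure Cfsg.Agent.Lib.RootPairs.LongPair Cfsg.Agent.Lib.RootPairs.Main
open scoped MatrixGroups Matrix

section General

variable {D : ChevalleyDatum} {C : Core D} {R0 : RootCert C} {F : Type*} [Field F] {M : Subgroup (GL D.Idx F)}
  {A : Subfield F} {q : GL D.Idx F} {c : F}

/-- No bad element when the field has at least four elements. -/
theorem false_plain (H : CommOK C) (p : ℕ) [Fact p.Prime] [CharP F p] (B : Bad R0 M A q c) {s : Rt D}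
    (hs : pr D R0.α s = 1 ∨ pr D R0.α s = -1) (h4 : 4 ≤ Nat.card A) : False := by
  haveI := B.finite_conjBy
  haveI := finite_comap C (conjBy M q) hs
  set Γ := (conjBy M q).comap (phi C F R0.α)
  have he : ∀ t : F, t ∈ Sl2.uSet Γ ↔ t ∈ A := fun t => by
    rw [Sl2.mem_uSet, Subgroup.mem_comap, phi_U, B.alpha_mem H]
  have hcard : Nat.card (Sl2.uSet Γ) = Nat.card A := Nat.card_congr (Equiv.subtypeEquivRight he)
  obtain ⟨-, hc, -⟩ := Sl2.param_field p Γ B.c_ne_zero ((he 1).2 A.one_mem)
    (by rw [Subgroup.mem_comap, phi_L]; exact B.y_mem) (hcard ▸ h4)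
  exact B.c_not_mem ((he c).1 hc)

/-- A finite subfield is the set of roots of `X^|A| - X`. -/
theorem pow_card_eq_iff (A : Subfield F) [Finite A] (t : F) : t ^ Nat.card A = t ↔ t ∈ A := by
  classical
  haveI : Fintype A := Fintype.ofFinite A
  rw [Nat.card_eq_fintype_card]
  refine ⟨fun ht => ?_, fun ht => congrArg Subtype.val (FiniteField.pow_card (⟨t, ht⟩ : A))⟩
  have hq1 : 1 < Fintype.card A := Fintype.one_lt_card
  set P : Polynomial F := Polynomial.X ^ Fintype.card A - Polynomial.X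
  have hP : P ≠ 0 := FiniteField.X_pow_card_sub_X_ne_zero F hq1
  by_contra hxA
  let S : Finset F := insert t (Finset.univ.image (Subtype.val : A → F))
  have hS : S.card = Fintype.card A + 1 := by
    rw [Finset.card_insert_of_notMem (by simpa using hxA), Finset.card_image_of_injective _ Subtype.val_injective,
      Finset.card_univ]
  have hle : S.card ≤ P.natDegree := by
    refine Polynomial.card_le_degree_of_subset_roots fun y hy => ?_
    rw [Polynomial.mem_roots hP, Polynomial.IsRoot]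
    simp only [P, Polynomial.eval_sub, Polynomial.eval_pow, Polynomial.eval_X, sub_eq_zero]
    rcases Finset.mem_insert.mp hy with rfl | hy
    · exact ht
    · obtain ⟨b, -, rfl⟩ := Finset.mem_image.mp hy
      rw [← SubmonoidClass.coe_pow, FiniteField.pow_card]
  rw [hS, FiniteField.X_pow_card_sub_X_natDegree_eq F hq1] at hle
  omega

/-- Elements fixed by the Frobenius of a finite subfield lie in it. -/
theorem exists_sigma (p : ℕ) [Fact p.Prime] [CharP F p] (A : Subfield F) [Finite A] :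
    ∃ σ : F →+* F, ∀ x : F, σ x = x ↔ x ∈ A := by
  haveI : Fintype A := Fintype.ofFinite A
  haveI : CharP A p := (RingHom.charP_iff A.subtype A.subtype_injective p).mpr inferInstance
  obtain ⟨n, -, hn⟩ := FiniteField.card A p
  exact ⟨iterateFrobenius F p n, fun x => by
    rw [iterateFrobenius_def, ← hn, ← Nat.card_eq_fintype_card]; exact pow_card_eq_iff A x⟩

/-- The conclusion from the absence of bad elements. -/
theorem rational_entries {N : ℤ} (H : CommOK C) (Mc : MultCert C N) (hsimple : IsSimpleGroup ↥(D.group F))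
    (p : ℕ) [Fact p.Prime] [CharP F p] {s : Rt D} (hs : pr D R0.α s = 1 ∨ pr D R0.α s = -1)
    [Finite M] (hMG : M ≤ D.group F) (h1 : ∀ r : Rt D, C.X F r 1 ∈ M)
    (hno : ∀ (A : Subfield F) (q : GL D.Idx F) (c : F), Bad R0 M A q c → Nat.card A < 4 → False) :
    ∃ A : Subfield F, Finite A ∧ (∀ r : Rt D, ∀ t ∈ A, C.X F r t ∈ M) ∧
      (∀ g ∈ M, ∀ i j : D.Idx, (g : Matrix D.Idx D.Idx F) i j ∈ A) ∧ ∀ t, C.X F R0.α t ∈ M → t ∈ A := by
  obtain ⟨A, hA, hroot, hmax⟩ := exists_field R0 p h1 hs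
  refine ⟨A, hA, hroot, ?_, hmax⟩
  obtain ⟨σ, hσ⟩ := exists_sigma p A
  have hc : ∀ h ∈ M, σ ((h : Matrix D.Idx D.Idx F) (Sum.inr R0.α.rev) (Sum.inr R0.α)) =
      (h : Matrix D.Idx D.Idx F) (Sum.inr R0.α.rev) (Sum.inr R0.α) := by
    intro h hh
    rw [hσ]
    by_contra hcA
    obtain ⟨q, hq, hconj⟩ := exists_extremal R0 H (hMG hh) (fun h0 => hcA (h0 ▸ A.zero_mem))
    have B : Bad R0 M A q _ :=
      { finite := inferInstance
        mem_root := hroot
        of_mem := hmax
        q_mem := hq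
        c_not_mem := hcA
        y_mem := by
          have := mul_mem (mul_mem hh (h1 R0.α)) (inv_mem hh)
          rwa [hconj, mul_one] at this }
    rcases Nat.lt_or_ge (Nat.card A) 4 with h4 | h4
    · exact hno A q _ B h4
    · exact false_plain H p B hs h4
  intro g hg i j
  have e := rational R0 Mc hsimple M hMG h1 σ hc hg
  exact (hσ _).1 (congrArg (fun g : GL D.Idx F => (g : Matrix D.Idx D.Idx F) i j) e)

theorem mem_int_of_small (p : ℕ) [Fact p.Prime] [CharP F p] (A : Subfield F) [Finite A] (h : Nat.card A < 4)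
    {x : F} (hx : x ∈ A) : ∃ n : ℤ, x = (n : F) := by
  haveI : Finite A.toAddSubgroup := ‹Finite A›
  exact Sl2.small_prime_field p (T := A.toAddSubgroup) A.one_mem h x hx

theorem unit_cast {z : ℤ} (h : z = 1 ∨ z = -1) : (z : F) ≠ 0 := by rcases h with rfl | rfl <;> simp

end General

section G2

variable {C : Core chevG2} {R0 : RootCert C} (H : CommOK C) {F : Type*} [Field F]
  {M : Subgroup (GL chevG2.Idx F)} {A : Subfield F} {q : GL chevG2.Idx F} {c : F}
include H

omit H in
theorem g2_facts : pr chevG2 ⟨10, by decide⟩ ⟨8, by decide⟩ = 0 ∧ pr chevG2 ⟨10, by decide⟩ ⟨6, by decide⟩ = -1 ∧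
    pr chevG2 ⟨10, by decide⟩ ⟨11, by decide⟩ = 1 ∧ pr chevG2 ⟨8, by decide⟩ ⟨11, by decide⟩ = 3 ∧
    (∃ s, pr chevG2 ⟨8, by decide⟩ s = 1) := by decide +kernel

theorem false_G2_three [CharP F 3] (B : Bad R0 M A q c) (Dt : LineData C R0 ⟨6, by decide⟩ ⟨1, by decide⟩
    ⟨10, by decide⟩ ⟨8, by decide⟩) : False := by
  haveI : Fact (Nat.Prime 3) := ⟨Nat.prime_three⟩
  have h3 : (3 : F) = 0 := by exact_mod_cast CharP.cast_eq_zero F 3
  obtain ⟨τ, ε, f, hτ, hE⟩ := exists_irrational H Dt 3 B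
  set d8 : Rt chevG2 := ⟨8, by decide⟩
  set d6 : Rt chevG2 := ⟨6, by decide⟩
  obtain ⟨f8, f6, f11, p811, s, hs⟩ := g2_facts
  have hα : R0.α = ⟨11, by decide⟩ := Fin.ext rfl
  haveI := B.finite
  have hh : Core.hD F (⟨10, by decide⟩ : Rt chevG2) (-1) ∈ M := hD_mem C B.one_mem
    (B.mem_root _ _ (by simpa using neg_mem A.one_mem)) (B.mem_root _ _ (by simpa using neg_mem A.one_mem))
  have h2 := mul_mem (mul_mem hh hE) (inv_mem hh)
  rw [show Core.hD F (⟨10, by decide⟩ : Rt chevG2) (-1) * (C.X F d8 τ * C.X F d6 ε * C.X F R0.α f) *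
      (Core.hD F (⟨10, by decide⟩ : Rt chevG2) (-1))⁻¹ =
    (Core.hD F (⟨10, by decide⟩ : Rt chevG2) (-1) * C.X F d8 τ * (Core.hD F (⟨10, by decide⟩ : Rt chevG2) (-1))⁻¹) *
    (Core.hD F (⟨10, by decide⟩ : Rt chevG2) (-1) * C.X F d6 ε * (Core.hD F (⟨10, by decide⟩ : Rt chevG2) (-1))⁻¹) *
    (Core.hD F (⟨10, by decide⟩ : Rt chevG2) (-1) * C.X F R0.α f * (Core.hD F (⟨10, by decide⟩ : Rt chevG2) (-1))⁻¹) by group,
    C.hD_X, C.hD_X, C.hD_X, mul_inv_cancel_right, mul_inv_cancel_right, mul_inv_cancel_right, f8, f6, hα, f11,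
    ← hα] at h2
  simp only [zpow_zero, zpow_one, zpow_neg, inv_neg, inv_one, Units.val_one, Units.val_neg, one_mul, neg_mul] at h2
  have h86 : ∀ a b : F, Commute (C.X F d8 a) (C.X F d6 b) := fun a b =>
    commute_nil H Dt.d_rv.1 Dt.d_rv.2.1 Dt.d_rv.2.2 a b
  have h8α : ∀ a b : F, Commute (C.X F d8 a) (C.X F R0.α b) := fun a b =>
    commute_alpha_rad R0 H (X_mem_Q R0 (Dt.pr_r ▸ one_pos) a) b
  have h6α : ∀ a b : F, Commute (C.X F d6 a) (C.X F R0.α b) := fun a b =>
    commute_alpha_rad R0 H (X_mem_Q R0 (Dt.pv ▸ one_pos) a) b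
  have h8 : C.X F d8 (τ + τ) ∈ M := by
    have := mul_mem hE h2
    convert this using 1
    simp only [mul_assoc]
    rw [← mul_assoc (C.X F R0.α f) (C.X F d8 τ), ← (h8α τ f).eq, mul_assoc (C.X F d8 τ),
      ← mul_assoc (C.X F d6 ε) (C.X F d8 τ), ← (h86 τ ε).eq, mul_assoc (C.X F d8 τ),
      ← mul_assoc (C.X F R0.α f) (C.X F d6 (-ε)), ← (h6α (-ε) f).eq, mul_assoc (C.X F d6 (-ε)), C.X_add,
      add_neg_cancel, C.X_zero, mul_one, C.X_add, add_neg_cancel, C.X_zero, mul_one, C.X_add]
  have hr : τ ∈ rootSet C M d8 := by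
    have := mul_mem h8 h8
    rw [C.X_add, show τ + τ + (τ + τ) = τ by linear_combination τ * h3] at this
    exact this
  -- the short root parameters form a field
  haveI := finite_rootSet C M d8
  let K0 : Subring F :=
    { (rootSet C M d8) with
      one_mem' := B.one_mem d8
      mul_mem' := fun {a b} ha hb => rootSet_mul C B.one_mem 3 (Or.inl hs) ha hb }
  haveI : Finite K0 := finite_rootSet C M d8
  have hτ0 : τ ≠ 0 := fun h => hτ (h ▸ A.zero_mem)
  obtain ⟨y, hy⟩ : ∃ y ∈ rootSet C M d8, τ * y = 1 := by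
    have hinj : Function.Injective (fun y : K0 => (⟨τ, hr⟩ : K0) * y) :=
      fun y z h => Subtype.ext (mul_left_cancel₀ hτ0 (congrArg Subtype.val h))
    obtain ⟨y, hy⟩ := Finite.injective_iff_surjective.mp hinj 1
    exact ⟨y, y.2, congrArg Subtype.val hy⟩
  have hu : Core.hD F d8 (Units.mk0 τ hτ0) ∈ M := hD_mem C B.one_mem hr (by
    rw [Units.val_inv_eq_inv_val, Units.val_mk0, inv_eq_of_mul_eq_one_right hy.2]; exact hy.1)
  have h11 := mul_mem (mul_mem hu (B.one_mem R0.α)) (inv_mem hu)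
  rw [C.hD_X, mul_inv_cancel_right, hα, p811, ← hα] at h11
  have hτ3 : τ ^ 3 ∈ A := by
    have := B.of_mem _ h11
    simpa [zpow_ofNat] using this
  haveI : Finite A := Finite.of_injective (fun a : A => (⟨C.X F R0.α a, B.mem_root _ a a.2⟩ : M)) fun a b h =>
    Subtype.ext (X_inj C (congrArg Subtype.val h))
  haveI : CharP A 3 := (RingHom.charP_iff A.subtype A.subtype_injective 3).mpr inferInstance
  obtain ⟨z, hz⟩ := (Finite.injective_iff_surjective.mp (frobenius_inj A 3)) ⟨τ ^ 3, hτ3⟩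
  apply hτ
  have : (z : F) = τ := frobenius_inj F 3 (by
    rw [frobenius_def, frobenius_def]; exact congrArg Subtype.val hz)
  exact this ▸ z.2

end G2

/-- The finite overgroups of the integral root elements. -/
theorem overgroup_field (D : ChevalleyDatum) (hD : D ∈ [chevG2, chevB2, chevD4, chevF4, chevE6, chevE7, chevE8])
    {F : Type*} [Field F] (p : ℕ) [Fact p.Prime] [CharP F p] (hF : ∃ a : F, a ≠ 0 ∧ a ≠ 1)
    (M : Subgroup (GL D.Idx F)) [Finite M] (hMG : M ≤ D.group F)
    (h1 : ∀ (r : Rt D) (g : GL D.Idx F), (g : Matrix D.Idx D.Idx F) = D.x F r.val 1 → g ∈ M) :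
    ∃ A : Subfield F, Finite A ∧
      (∀ (r : Rt D) (t : F), t ∈ A → ∀ g : GL D.Idx F, (g : Matrix D.Idx D.Idx F) = D.x F r.val t → g ∈ M) ∧
      (∀ g ∈ M, ∀ i j : D.Idx, (g : Matrix D.Idx D.Idx F) i j ∈ A) ∧
      ∀ t : F, (∀ (r : Rt D) (g : GL D.Idx F), (g : Matrix D.Idx D.Idx F) = D.x F r.val t → g ∈ M) → t ∈ A := by
  have finish : ∀ (C : Core D) (R0 : RootCert C), (∃ A : Subfield F, Finite A ∧ (∀ r : Rt D, ∀ t ∈ A, C.X F r t ∈ M) ∧
      (∀ g ∈ M, ∀ i j : D.Idx, (g : Matrix D.Idx D.Idx F) i j ∈ A) ∧ ∀ t, C.X F R0.α t ∈ M → t ∈ A) →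
      ∃ A : Subfield F, Finite A ∧
      (∀ (r : Rt D) (t : F), t ∈ A → ∀ g : GL D.Idx F, (g : Matrix D.Idx D.Idx F) = D.x F r.val t → g ∈ M) ∧
      (∀ g ∈ M, ∀ i j : D.Idx, (g : Matrix D.Idx D.Idx F) i j ∈ A) ∧
      ∀ t : F, (∀ (r : Rt D) (g : GL D.Idx F), (g : Matrix D.Idx D.Idx F) = D.x F r.val t → g ∈ M) → t ∈ A := by
    rintro C R0 ⟨A, hA, hroot, hent, hmax⟩
    exact ⟨A, hA, fun r t ht g hg => by rw [C.eq_X hg]; exact hroot r t ht, hent,
      fun t ht => hmax t (ht R0.α _ (C.X_val_x _ t))⟩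
  have hX : ∀ (C : Core D) (r : Rt D), C.X F r 1 ∈ M := fun C r => h1 r _ (C.X_val_x r 1)
  simp only [List.mem_cons, List.not_mem_nil, or_false] at hD
  rcases hD with rfl | rfl | rfl | rfl | rfl | rfl | rfl
  · -- G2
    have R0 := rootCert_of_raw Cert.G2.core Certs.rootG2
    refine finish Cert.G2.core R0 (rational_entries (R0 := R0) commOK_G2 (multCert_of_raw _ Certs.multG2) (simple_G2 hF).1 p
      (s := ⟨6, by decide⟩) (Or.inl Certs.lineG2.1.1) hMG (hX _) fun A q c B _ => ?_)
    obtain ⟨hl, hterm⟩ := Certs.lineG2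
    rcases eq_or_ne p 3 with rfl | hp3
    · exact false_G2_three commOK_G2 B (lineData_of_raw _ R0 hl)
    · obtain ⟨-, -, -, hr', -, -, -, -, -, -, -, e1, e2, e3, e4, e5⟩ := hl
      refine false_of_partner commOK_G2 (lineData_of_raw _ R0 Certs.lineG2.1) p B hr' e1 e2 hterm e3 e4 e5 ?_
      intro h0
      exact hp3 ((Nat.prime_dvd_prime_iff_eq Fact.out Nat.prime_three).mp
        ((CharP.cast_eq_zero_iff F p 3).mp (by exact_mod_cast h0)))
  · -- B2
    have R0 := rootCert_of_raw Cert.B2.core Certs.rootB2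
    have hH := Cert.B2.core.commOK_mild mildB2
    refine finish Cert.B2.core R0 (rational_entries (R0 := R0) hH (multCert_of_raw _ Certs.multB2) (simple_B2 hF).1 p
      (s := B2.d6) (Or.inl (by rw [B2.alpha_eq R0]; exact B2.pr_facts.2.1)) hMG (hX _) fun A q c B hA4 => ?_)
    haveI : Finite A := Finite.of_injective (fun a : A => (⟨_, B.mem_root R0.α a a.2⟩ : M)) fun a b h =>
      Subtype.ext (X_inj Cert.B2.core (congrArg Subtype.val h))
    have hcard : p ≤ Nat.card A := by
      haveI : CharP A p := (RingHom.charP_iff A.subtype A.subtype_injective p).mpr inferInstance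
      simpa using Nat.card_le_card_of_injective _ (ZMod.castHom_injective (n := p) A)
    have hp : p = 2 ∨ p = 3 := by
      have := (Fact.out : p.Prime).two_le
      omega
    rcases hp with rfl | rfl
    · refine B2.false_two hH ?_ B fun x hx => ?_
      · exact_mod_cast CharP.cast_eq_zero F 2
      · obtain ⟨n, rfl⟩ := mem_int_of_small 2 A hA4 hx
        rw [CharP.intCast_eq_intCast_mod F 2 (a := n)]
        rcases Int.emod_two_eq_zero_or_one n with e | e
        · left; push_cast; rw [e]; simp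
        · right; push_cast; rw [e]; simp
    · refine B2.false_three hH B fun x hx => ?_
      obtain ⟨n, rfl⟩ := mem_int_of_small 3 A hA4 hx
      rw [CharP.intCast_eq_intCast_mod F 3 (a := n)]
      have hlt : n % ((3 : ℕ) : ℤ) = 0 ∨ n % ((3 : ℕ) : ℤ) = 1 ∨ n % ((3 : ℕ) : ℤ) = 2 := by omega
      rcases hlt with e | e | e <;> rw [e]
      · left; simp
      · right; left; simp
      · right; right
        push_cast
        have h3 : (3 : F) = 0 := by exact_mod_cast CharP.cast_eq_zero F 3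
        linear_combination h3
  · -- D4
    have R0 := rootCert_of_raw Cert.D4.core Certs.rootD4
    refine finish Cert.D4.core R0 (rational_entries (R0 := R0) (Cert.D4.core.commOK_mild mildD4) (multCert_of_raw _ Certs.multD4)
      (simple_big chevD4 (by simp)).1 p (s := ⟨14, by decide⟩) (Or.inl Certs.lineD4.1.1) hMG (hX _) fun A q c B _ => ?_)
    obtain ⟨⟨-, -, -, hr', -, -, -, -, -, -, -, e1, e2, e3, e4, e5⟩, hterm⟩ := Certs.lineD4
    exact false_of_partner (Cert.D4.core.commOK_mild mildD4) (lineData_of_raw _ R0 Certs.lineD4.1) p B hr' e1 e2 hterm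
      e3 e4 e5 (unit_cast (Or.inr rfl))
  · -- F4
    have R0 := rootCert_of_raw Cert.F4.core Certs.rootF4
    refine finish Cert.F4.core R0 (rational_entries (R0 := R0) (Cert.F4.core.commOK_mild mildF4) (multCert_of_raw _ Certs.multF4)
      (simple_big chevF4 (by simp)).1 p (s := ⟨24, by decide⟩) (Or.inl Certs.lineF4.1.1) hMG (hX _) fun A q c B _ => ?_)
    obtain ⟨⟨-, -, -, hr', -, -, -, -, -, -, -, e1, e2, e3, e4, e5⟩, hterm⟩ := Certs.lineF4
    exact false_of_partner (Cert.F4.core.commOK_mild mildF4) (lineData_of_raw _ R0 Certs.lineF4.1) p B hr' e1 e2 hterm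
      e3 e4 e5 (unit_cast (Or.inl rfl))
  · -- E6
    have R0 := rootCert_of_raw Cert.E6.core Certs.rootE6
    refine finish Cert.E6.core R0 (rational_entries (R0 := R0) (Cert.E6.core.commOK_mild mildE6) (multCert_of_raw _ Certs.multE6)
      (simple_big chevE6 (by simp)).1 p (s := ⟨46, by decide⟩) (Or.inl Certs.lineE6.1.1) hMG (hX _) fun A q c B _ => ?_)
    obtain ⟨⟨-, -, -, hr', -, -, -, -, -, -, -, e1, e2, e3, e4, e5⟩, hterm⟩ := Certs.lineE6
    exact false_of_partner (Cert.E6.core.commOK_mild mildE6) (lineData_of_raw _ R0 Certs.lineE6.1) p B hr' e1 e2 hterm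
      e3 e4 e5 (unit_cast (Or.inr rfl))
  · -- E7
    have R0 := rootCert_of_raw Cert.E7.core Certs.rootE7
    refine finish Cert.E7.core R0 (rational_entries (R0 := R0) (Cert.E7.core.commOK_mild mildE7) (multCert_of_raw _ Certs.multE7)
      (simple_big chevE7 (by simp)).1 p (s := ⟨93, by decide⟩) (Or.inl Certs.lineE7.1.1) hMG (hX _) fun A q c B _ => ?_)
    obtain ⟨⟨-, -, -, hr', -, -, -, -, -, -, -, e1, e2, e3, e4, e5⟩, hterm⟩ := Certs.lineE7
    exact false_of_partner (Cert.E7.core.commOK_mild mildE7) (lineData_of_raw _ R0 Certs.lineE7.1) p B hr' e1 e2 hterm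
      e3 e4 e5 (unit_cast (Or.inr rfl))
  · -- E8
    have R0 := rootCert_of_raw Cert.E8.core Certs.rootE8
    refine finish Cert.E8.core R0 (rational_entries (R0 := R0) (Cert.E8.core.commOK_mild mildE8) (multCert_of_raw _ Certs.multE8)
      (simple_big chevE8 (by simp)).1 p (s := ⟨120, by decide⟩) (Or.inl Certs.lineE8.1.1) hMG (hX _) fun A q c B _ => ?_)
    obtain ⟨⟨-, -, -, hr', -, -, -, -, -, -, -, e1, e2, e3, e4, e5⟩, hterm⟩ := Certs.lineE8
    exact false_of_partner (Cert.E8.core.commOK_mild mildE8) (lineData_of_raw _ R0 Certs.lineE8.1) p B hr' e1 e2 hterm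
      e3 e4 e5 (unit_cast (Or.inl rfl))

/-- The subfield with p^a elements, as the range of the Galois field. -/
theorem exists_subfield {F : Type*} [Field F] (p : ℕ) [Fact p.Prime] [CharP F p] {a : ℕ} (ha : a ≠ 0)
    (f : GaloisField p a →+* F) :
    ∃ K0 : Subfield F, Finite K0 ∧ Nat.card K0 = p ^ a ∧ ∀ t : F, t ^ (p ^ a) = t ↔ t ∈ K0 := by
  classical
  refine ⟨f.fieldRange, ?_, ?_, fun t => ⟨fun ht => ?_, ?_⟩⟩
  · exact Finite.of_surjective f.rangeRestrictField f.rangeRestrictField_bijective.2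
  · rw [← Nat.card_congr (Equiv.ofBijective _ f.rangeRestrictField_bijective), GaloisField.card p a ha]
  · haveI : Finite f.fieldRange := Finite.of_surjective f.rangeRestrictField f.rangeRestrictField_bijective.2
    rw [← pow_card_eq_iff, ← Nat.card_congr (Equiv.ofBijective _ f.rangeRestrictField_bijective),
      GaloisField.card p a ha]
    exact ht
  · intro ht
    haveI : Finite f.fieldRange := Finite.of_surjective f.rangeRestrictField f.rangeRestrictField_bijective.2
    rwa [← pow_card_eq_iff, ← Nat.card_congr (Equiv.ofBijective _ f.rangeRestrictField_bijective),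
      GaloisField.card p a ha] at ht

/-- Root elements exist in the group, and their parameter is determined. -/
theorem exists_root_elt (D : ChevalleyDatum) (hD : D ∈ [chevG2, chevB2, chevD4, chevF4, chevE6, chevE7, chevE8])
    {F : Type*} [Field F] (r : Rt D) (t : F) :
    ∃ g ∈ D.group F, (g : Matrix D.Idx D.Idx F) = D.x F r.val t ∧ ∀ u, D.x F r.val u = D.x F r.val t → u = t := by
  have go : ∀ C : Core D, ∃ g ∈ D.group F,
      (g : Matrix D.Idx D.Idx F) = D.x F r.val t ∧ ∀ u, D.x F r.val u = D.x F r.val t → u = t := fun C =>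
    ⟨C.X F r t, Subgroup.subset_closure ⟨r, t, by rw [C.X_val_x, ChevalleyDatum.x, dif_pos r.isLt]⟩, C.X_val_x r t,
      fun u hu => X_inj C (Units.ext ((C.X_val_x r u).trans (hu.trans (C.X_val_x r t).symm)))⟩
  simp only [List.mem_cons, List.not_mem_nil, or_false] at hD
  rcases hD with rfl | rfl | rfl | rfl | rfl | rfl | rfl
  exacts [go Cert.G2.core, go Cert.B2.core, go Cert.D4.core, go Cert.F4.core, go Cert.E6.core, go Cert.E7.core,
    go Cert.E8.core]

/-- Entries of a root element lie in any subfield containing the parameter. -/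
theorem x_mem (D : ChevalleyDatum) {F : Type*} [Field F] (A : Subfield F) (r : Rt D) {t : F} (ht : t ∈ A)
    (i j : D.Idx) : D.x F r.val t i j ∈ A := by
  rw [ChevalleyDatum.x, dif_pos r.isLt, ChevalleyDatum.xMat, Matrix.of_apply]
  have hsum : ∀ L : List (ℕ × ℤ), (L.map fun km => ((km.2 : ℤ) : F) * t ^ km.1).sum ∈ A := fun L =>
    list_sum_mem fun x hx => by
      obtain ⟨km, -, rfl⟩ := List.mem_map.mp hx
      exact mul_mem (intCast_mem A km.2) (pow_mem ht _)
  rcases j with j | j <;> rcases i with i | i <;> dsimp only <;> split_ifs <;>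
    first
    | exact A.one_mem
    | exact A.zero_mem
    | exact neg_mem (pow_mem ht _)
    | exact mul_mem (neg_mem (intCast_mem A _)) ht
    | exact mul_mem (intCast_mem A _) ht
    | exact add_mem (by first | exact A.one_mem | exact A.zero_mem) (hsum _)

/-- A finite subfield above another has a power as cardinality. -/
theorem card_pow_of_le {F : Type*} [Field F] {K0 A : Subfield F} [Finite A] (h : K0 ≤ A) :
    ∃ j, 1 ≤ j ∧ Nat.card A = Nat.card K0 ^ j := by
  haveI : Finite K0 := Finite.of_injective (fun x : K0 => (⟨(x : F), h x.2⟩ : A)) fun x y e =>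
    Subtype.ext (congrArg (fun z : A => (z : F)) e)
  letI : Algebra K0 A := (Subfield.inclusion h).toAlgebra
  haveI : Module.Finite K0 A := Module.Finite.of_finite
  refine ⟨Module.finrank K0 A, Module.finrank_pos, ?_⟩
  exact Module.natCard_eq_pow_finrank

end Cfsg.Agent.Lib.SubfieldChev49
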