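import Cfsg.Agent.Lib.SubfieldChev49.Basic
import Cfsg.Agent.Lib.ChevFixed.Field

/-!
The rationality lemma: if the extremal matrix coefficient of every element of an overgroup of the
integral root elements is fixed by a field endomorphism, then so is every element.
-/

set_option autoImplicit false
set_option linter.unusedSectionVars false
set_option linter.style.haveILetI false
set_option linter.unusedVariables false

namespace Cfsg.Agent.Lib.SubfieldChev49

open Cfsg.Lie Cfsg.Agent.Lib.ChevStructure Cfsg.Agent.Lib.RootPairs.LongPair Cfsg.Agent.Lib.RootPairs.Main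
open scoped MatrixGroups Matrix

variable {D : ChevalleyDatum}

/-- The certified divisibilities by the ratio of the squared root lengths. -/
structure MultCert (C : Core D) (N : ℤ) : Prop where
  wit : ∀ i, IsLong D (C.p i) ∨ ∃ β, IsLong D β ∧ (pr D (C.p i) β = N ∨ pr D (C.p i) β = -N)
  div : N = 1 ∨ ((∀ (i : Fin D.rank) (β : Rt D), IsLong D β → IsLong D (C.p i) ∨ N ∣ pr D (C.p i) β) ∧
    ∀ (i : Fin D.rank) (k : Fin 3) (s β : Rt D), IsLong D β → IsLong D s ∨ N ∣ chM D (k.val + 1) (C.p i) s β)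
  twice : ∀ i, IsLong D (C.p i) ∨ ∃ β γ, IsLong D β ∧ IsLong D γ ∧ ∀ j, N * A D j (C.p i) = A D j β + A D j γ

section Vectors

variable (C : Core D) {F : Type*} [Field F]

/-- The pairing of a vector with a root through its Cartan part. -/
def cartanPart (r : Rt D) (v : D.Idx → F) : F := ∑ i, (A D i r : F) * v (Sum.inl i)

include C

theorem pr_combo {q r s : Rt D} {a b : ℤ} (h : C.v q = a • C.v r + b • C.v s) (x : Rt D) :
    pr D x q = a * pr D x r + b * pr D x s := by
  simp only [C.pr_lin x q, C.pr_lin x r, C.pr_lin x s, h, Pi.add_apply, Pi.smul_apply, smul_eq_mul,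
    add_mul, mul_assoc, Finset.sum_add_distrib, Finset.mul_sum]

theorem v_ne_zero (r : Rt D) : C.v r ≠ 0 := fun h => by
  have := C.pr_self r
  rw [C.pr_lin, h] at this
  simp at this

theorem X_mulVec_inl (r : Rt D) (t : F) (v : D.Idx → F) (i : Fin D.rank) :
    (((C.X F r t : GL D.Idx F) : Matrix D.Idx D.Idx F) *ᵥ v) (Sum.inl i) =
      v (Sum.inl i) + t * (co D r i : F) * v (Sum.inr r.rev) := by
  rw [C.X_val, Matrix.mulVec, dotProduct, Fintype.sum_sum_type]
  simp [xI, Matrix.sum_apply, Finset.sum_range_succ, Ek, E, Matrix.one_apply, ite_mul, Finset.sum_add_distrib]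

theorem X_mulVec_inr (r : Rt D) (t : F) (v : D.Idx → F) (u : Rt D) :
    (((C.X F r t : GL D.Idx F) : Matrix D.Idx D.Idx F) *ᵥ v) (Sum.inr u) =
      v (Sum.inr u) + (if u = r then -t * cartanPart r v - t ^ 2 * v (Sum.inr r.rev) else 0) +
        ∑ s ∈ Finset.univ.erase r.rev, ∑ k ∈ Finset.range 3,
          t ^ (k + 1) * (chM D (k + 1) r s u : F) * v (Sum.inr s) := by
  have el : ∀ i, ((C.X F r t : GL D.Idx F) : Matrix D.Idx D.Idx F) (Sum.inr u) (Sum.inl i) =
      if u = r then -t * (A D i r : F) else 0 := by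
    intro i
    by_cases h : u = r <;>
      simp [xI, Matrix.sum_apply, Finset.sum_range_succ, Ek, E, Matrix.one_apply, h]
  have er : ∀ s, ((C.X F r t : GL D.Idx F) : Matrix D.Idx D.Idx F) (Sum.inr u) (Sum.inr s) =
      (if u = s then 1 else 0) + (if s = r.rev then (if u = r then -t ^ 2 else 0)
        else ∑ k ∈ Finset.range 3, t ^ (k + 1) * (chM D (k + 1) r s u : F)) := by
    intro s
    by_cases h : s = r.rev
    · by_cases h' : u = r <;>
        simp [xI, Matrix.sum_apply, Finset.sum_range_succ, Ek, E, Matrix.one_apply, h, h']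
    · simp [xI, Matrix.sum_apply, Finset.sum_range_succ, Ek, E, Matrix.one_apply, h]
      ring
  rw [Matrix.mulVec, dotProduct, Fintype.sum_sum_type]
  simp only [el, er, add_mul, ite_mul, one_mul, zero_mul, Finset.sum_add_distrib, Finset.sum_ite_eq,
    Finset.mem_univ, if_true, Finset.sum_mul]
  rw [← Finset.add_sum_erase _ _ (Finset.mem_univ r.rev), if_pos rfl,
    Finset.sum_congr rfl fun s hs => if_neg (Finset.ne_of_mem_erase hs)]
  by_cases h : u = r
  · simp only [h, if_true, cartanPart, Finset.mul_sum, mul_assoc]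
    ring
  · simp only [h, if_false, Finset.sum_const_zero]
    ring

theorem chM_target {r : Rt D} (hr : IsLong D r) {s : Rt D} (hs : s ≠ r.rev) {k : ℕ} (hk : k < 3) :
    chM D (k + 1) r s r = 0 := by
  by_contra h
  obtain ⟨-, hv⟩ := C.chM_tgt k r s r h
  have hv' : C.v s = (-(k : ℤ)) • C.v r := by
    rw [show C.v s = C.v r - ((k : ℤ) + 1) • C.v r from eq_sub_of_add_eq hv.symm]
    module
  interval_cases k
  · exact v_ne_zero C s (by simpa using hv')
  · exact hs (C.v_inj (by rw [hv', C.v_rev]; simp))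
  · have e : pr D r s = -4 := by
      have h' := pr_combo C (q := s) (r := r) (s := r) (a := -2) (b := 0) (by rw [hv']; push_cast; module) r
      rw [h', C.pr_self]; norm_num
    have h1 : s ≠ r := by rintro rfl; rw [C.pr_self] at e; norm_num at e
    have := hr s h1 hs
    omega

end Vectors

section Small

variable (C : Core D) {F : Type*} [Field F] (N : ℤ)

/-- The vectors killed by all the extremal functionals. -/
def Small (v : D.Idx → F) : Prop :=
  (∀ β, IsLong D β → v (Sum.inr β) = 0) ∧ (∀ β, IsLong D β → cartanPart β v = 0) ∧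
    ∀ r, (N : F) * v (Sum.inr r) = 0

/-- The stabiliser of the small vectors. -/
def smallStab : Subgroup (GL D.Idx F) where
  carrier := {g | (∀ v, Small N v → Small N ((g : Matrix D.Idx D.Idx F) *ᵥ v)) ∧
    ∀ v, Small N v → Small N (((g⁻¹ : GL D.Idx F) : Matrix D.Idx D.Idx F) *ᵥ v)}
  one_mem' := by simp [Matrix.one_mulVec]
  mul_mem' := by
    intro g h hg hh
    refine ⟨fun v hv => ?_, fun v hv => ?_⟩
    · rw [Units.val_mul, ← Matrix.mulVec_mulVec]; exact hg.1 _ (hh.1 v hv)
    · rw [mul_inv_rev, Units.val_mul, ← Matrix.mulVec_mulVec]; exact hh.2 _ (hg.2 v hv)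
  inv_mem' := fun {g} hg => ⟨hg.2, by rw [inv_inv]; exact hg.1⟩

variable {C N}

theorem small_HT (c : Fin D.rank → Fˣ) {v : D.Idx → F} (hv : Small N v) :
    Small N (((C.HT F c : GL D.Idx F) : Matrix D.Idx D.Idx F) *ᵥ v) := by
  refine ⟨fun β hβ => ?_, fun β hβ => ?_, fun r => ?_⟩
  · simp [Core.HT, Core.diag, Matrix.mulVec_diagonal, hv.1 β hβ]
  · refine (Finset.sum_congr rfl fun i _ => ?_).trans (hv.2.1 β hβ)
    simp [Core.HT, Core.diag, Matrix.mulVec_diagonal]
  · simp only [Core.HT, Core.diag, Matrix.mulVec_diagonal, Sum.elim_inr]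
    rw [mul_left_comm, hv.2.2 r, mul_zero]

theorem P_mulVec_inr (i : Fin D.rank) (v : D.Idx → F) (u : Rt D) :
    (((C.P F i : GL D.Idx F) : Matrix D.Idx D.Idx F) *ᵥ v) (Sum.inr u) =
      (C.η i (C.w i u) : F) * v (Sum.inr (C.w i u)) := by
  rw [C.P_val, Matrix.mulVec, dotProduct, Fintype.sum_sum_type]
  have hz : ∀ s, s ≠ C.w i u → u ≠ C.w i s := fun s hs e => hs (by rw [e, C.w_w])
  rw [Finset.sum_eq_zero (fun j _ => by simp [Pm]), zero_add,
    Finset.sum_eq_single_of_mem (C.w i u) (Finset.mem_univ _) (fun s _ hs => by simp [Pm, hz s hs])]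
  simp [Pm, C.w_w]

theorem cartanPart_P (i : Fin D.rank) (v : D.Idx → F) (β : Rt D) :
    cartanPart β (((C.P F i : GL D.Idx F) : Matrix D.Idx D.Idx F) *ᵥ v) = cartanPart (C.w i β) v := by
  have e : ∀ a, (((C.P F i : GL D.Idx F) : Matrix D.Idx D.Idx F) *ᵥ v) (Sum.inl a) =
      v (Sum.inl a) - (if a = i then ∑ j, (A D j (C.p i) : F) * v (Sum.inl j) else 0) := by
    intro a
    rw [C.P_val, Matrix.mulVec, dotProduct, Fintype.sum_sum_type]
    by_cases h : a = i <;>
      simp [Pm, h, sub_mul, Finset.sum_sub_distrib, ite_mul]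
  unfold cartanPart
  calc ∑ a, (A D a β : F) * (((C.P F i : GL D.Idx F) : Matrix D.Idx D.Idx F) *ᵥ v) (Sum.inl a)
      = ∑ a, (A D a β : F) * v (Sum.inl a) -
          (A D i β : F) * ∑ j, (A D j (C.p i) : F) * v (Sum.inl j) := by
        simp only [e, mul_sub, mul_ite, mul_zero]
        rw [Finset.sum_sub_distrib, Finset.sum_ite_eq', if_pos (Finset.mem_univ i)]
    _ = _ := by
        rw [Finset.mul_sum, ← Finset.sum_sub_distrib]
        refine Finset.sum_congr rfl fun j _ => ?_
        rw [C.A_w]; push_cast; ring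

theorem small_P (i : Fin D.rank) {v : D.Idx → F} (hv : Small N v) :
    Small N (((C.P F i : GL D.Idx F) : Matrix D.Idx D.Idx F) *ᵥ v) := by
  refine ⟨fun β hβ => ?_, fun β hβ => ?_, fun r => ?_⟩
  · rw [P_mulVec_inr, hv.1 _ (isLong_w C i hβ), mul_zero]
  · rw [cartanPart_P, hv.2.1 _ (isLong_w C i hβ)]
  · rw [P_mulVec_inr, mul_left_comm, hv.2.2, mul_zero]

theorem P_mem_smallStab (i : Fin D.rank) : C.P F i ∈ smallStab N := by
  refine ⟨fun v hv => small_P i hv, fun v hv => ?_⟩
  obtain ⟨c, hc⟩ := C.P_inv F i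
  rw [hc, Units.val_mul, ← Matrix.mulVec_mulVec]
  exact small_HT c (small_P i hv)

theorem cartanPart_X (r : Rt D) (t : F) (v : D.Idx → F) (β : Rt D) :
    cartanPart β (((C.X F r t : GL D.Idx F) : Matrix D.Idx D.Idx F) *ᵥ v) =
      cartanPart β v + t * (pr D r β : F) * v (Sum.inr r.rev) := by
  unfold cartanPart
  simp only [X_mulVec_inl C, mul_add, Finset.sum_add_distrib, pr, Int.cast_sum, Int.cast_mul, Finset.mul_sum, Finset.sum_mul]
  congr 1
  exact Finset.sum_congr rfl fun j _ => by ring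

variable (Mc : MultCert C N) (R0 : RootCert C)
include Mc R0

theorem small_X_simple (i : Fin D.rank) (t : F) {v : D.Idx → F} (hv : Small N v) :
    Small N (((C.X F (C.p i) t : GL D.Idx F) : Matrix D.Idx D.Idx F) *ᵥ v) := by
  obtain ⟨h1, h2, h3⟩ := hv
  have hN : ∀ (z : ℤ) (r : Rt D), N ∣ z → (z : F) * v (Sum.inr r) = 0 := by
    rintro z r ⟨y, rfl⟩
    rw [Int.cast_mul, mul_right_comm, h3, zero_mul]
  have hchain : ∀ (β : Rt D), IsLong D β → ∀ s, ∀ k < 3, (chM D (k + 1) (C.p i) s β : F) * v (Sum.inr s) = 0 := by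
    intro β hβ s k hk
    rcases Mc.div with h | ⟨-, h⟩
    · exact hN _ _ (h ▸ one_dvd _)
    · rcases h i ⟨k, hk⟩ s β hβ with h' | h'
      · rw [h1 s h', mul_zero]
      · exact hN _ _ h'
  refine ⟨fun β hβ => ?_, fun β hβ => ?_, fun r => ?_⟩
  · rw [X_mulVec_inr C, h1 β hβ, zero_add, Finset.sum_eq_zero, add_zero]
    · split_ifs with h
      · subst h
        rw [h2 _ hβ, h1 _ (isLong_rev R0 hβ)]; ring
      · rfl
    · intro s _
      refine Finset.sum_eq_zero fun k hk => ?_
      rw [mul_assoc, hchain β hβ s k (Finset.mem_range.mp hk), mul_zero]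
  · rw [cartanPart_X, h2 β hβ, zero_add, mul_assoc]
    rcases em (IsLong D (C.p i)) with h | h
    · rw [h1 _ (isLong_rev R0 h), mul_zero, mul_zero]
    · rcases Mc.div with h' | ⟨h', -⟩
      · rw [hN _ _ (h' ▸ one_dvd _), mul_zero]
      · rw [hN _ _ ((h' i β hβ).resolve_left h), mul_zero]
  · rw [X_mulVec_inr C, mul_add, mul_add, h3, zero_add, Finset.mul_sum, Finset.sum_eq_zero, add_zero]
    · split_ifs with h
      · subst h
        have e : (N : F) * cartanPart (C.p i) v = 0 := by
          rcases Mc.twice i with h | ⟨β, γ, hβ, hγ, hj⟩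
          · rw [h2 _ h, mul_zero]
          · have : (N : F) * cartanPart (C.p i) v = cartanPart β v + cartanPart γ v := by
              unfold cartanPart
              rw [Finset.mul_sum, ← Finset.sum_add_distrib]
              refine Finset.sum_congr rfl fun j _ => ?_
              have := congrArg (fun z : ℤ => (z : F)) (hj j)
              simp only [Int.cast_mul, Int.cast_add] at this
              rw [← mul_assoc, this]; ring
            rw [this, h2 _ hβ, h2 _ hγ, add_zero]
        linear_combination (-t) * e - t ^ 2 * h3 (C.p i).rev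
      · ring
    · intro s _
      rw [Finset.mul_sum]
      exact Finset.sum_eq_zero fun k _ => by rw [mul_left_comm, h3, mul_zero]

theorem group_le_smallStab : D.group F ≤ smallStab N := by
  rw [ChevalleyDatum.group]
  refine (Subgroup.closure_le _).2 ?_
  rintro g ⟨r, t, hg⟩
  have e : g = C.X F r t := C.eq_X (by rw [hg, ChevalleyDatum.x, dif_pos r.isLt])
  subst e
  clear hg
  revert t
  refine C.ind (fun r => ∀ t : F, C.X F r t ∈ smallStab N) (fun i t => ?_) (fun i r ih t => ?_) r
  · exact ⟨fun v hv => small_X_simple Mc R0 i t hv, fun v hv => by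
      rw [C.X_inv]; exact small_X_simple Mc R0 i (-t) hv⟩
  · have e := C.P_X_conj F i r ((C.η i r : F) * t)
    rw [← mul_assoc, ← Int.cast_mul, C.η_mul_self, Int.cast_one, one_mul] at e
    rw [← e]
    exact mul_mem (mul_mem (P_mem_smallStab i) (ih _)) (inv_mem (P_mem_smallStab i))

end Small

section Main

variable {C : Core D} {N : ℤ} (R0 : RootCert C) (Mc : MultCert C N) {F : Type*} [Field F]
include R0 Mc

/-- The functional vanishing criterion. -/
theorem small_of_functional (M0 : Subgroup (GL D.Idx F)) (h1 : ∀ r : Rt D, C.X F r 1 ∈ M0)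
    {v : D.Idx → F} (hv : ∀ m ∈ M0, ((m : Matrix D.Idx D.Idx F) *ᵥ v) (Sum.inr R0.α.rev) = 0) :
    Small N v := by
  have hcomp : ∀ (w : D.Idx → F), (∀ m ∈ M0, ((m : Matrix D.Idx D.Idx F) *ᵥ w) (Sum.inr R0.α.rev) = 0) →
      ∀ g ∈ M0, ∀ m ∈ M0, ((m : Matrix D.Idx D.Idx F) *ᵥ ((g : Matrix D.Idx D.Idx F) *ᵥ w)) (Sum.inr R0.α.rev) = 0 :=
    fun w hw g hg m hm => by rw [Matrix.mulVec_mulVec, ← Units.val_mul]; exact hw _ (mul_mem hm hg)
  have long : ∀ β, IsLong D β → ∀ (w : D.Idx → F),
      (∀ m ∈ M0, ((m : Matrix D.Idx D.Idx F) *ᵥ w) (Sum.inr R0.α.rev) = 0) → w (Sum.inr β) = 0 := by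
    intro β hβ w hw
    obtain ⟨L, hL⟩ := long_trans' R0 hβ (isLong_rev R0 R0.long)
    have hm := wprod_mem C h1 L
    obtain ⟨c, hc⟩ := C.wprod_inv F L
    have key : ∀ (L : List (Fin D.rank)) (u : D.Idx → F) (r : Rt D), ∃ χ : F, χ ≠ 0 ∧
        (((C.wprod F L : GL D.Idx F) : Matrix D.Idx D.Idx F) *ᵥ u) (Sum.inr (C.pprod L r)) = χ * u (Sum.inr r) := by
      intro L
      induction L with
      | nil => exact fun u r => ⟨1, one_ne_zero, by simp [Core.wprod, C.pprod_nil]⟩
      | cons i L ih =>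
        intro u r
        obtain ⟨χ, hχ, e⟩ := ih u r
        refine ⟨(C.η i (C.pprod L r) : F) * χ, mul_ne_zero ?_ hχ, ?_⟩
        · rcases C.η_one i (C.pprod L r) with h | h <;> simp [h]
        · rw [C.wprod_cons, Units.val_mul, ← Matrix.mulVec_mulVec, P_mulVec_inr, C.pprod_cons,
            Equiv.Perm.mul_apply, C.sref_apply, C.w_w, e, mul_assoc]
    obtain ⟨χ, hχ, e⟩ := key L w β
    have := hw _ hm
    rw [show R0.α.rev = C.pprod L β from hL.symm, e] at this
    exact (mul_eq_zero.mp this).resolve_left hχ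
  have hbar : ∀ β, IsLong D β → ∀ (w : D.Idx → F),
      (∀ m ∈ M0, ((m : Matrix D.Idx D.Idx F) *ᵥ w) (Sum.inr R0.α.rev) = 0) → cartanPart β w = 0 := by
    intro β hβ w hw
    have h2 := long β.rev (isLong_rev R0 hβ) _ (hcomp w hw _ (h1 β.rev))
    have hz : ∑ s ∈ Finset.univ.erase β, ∑ k ∈ Finset.range 3,
        (1 : F) ^ (k + 1) * (chM D (k + 1) β.rev s β.rev : F) * w (Sum.inr s) = 0 :=
      Finset.sum_eq_zero fun s hs => Finset.sum_eq_zero fun k hk => by
        rw [chM_target C (isLong_rev R0 hβ) (by rw [C.rev_rev]; exact Finset.ne_of_mem_erase hs) (Finset.mem_range.mp hk)]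
        simp
    rw [X_mulVec_inr C, if_pos rfl, C.rev_rev, long β.rev (isLong_rev R0 hβ) w hw, long β hβ w hw, hz] at h2
    have e : cartanPart β.rev w = -cartanPart β w := by
      simp [cartanPart, C.A_rev]
    rw [e] at h2
    linear_combination h2
  refine ⟨fun β hβ => long β hβ v hv, fun β hβ => hbar β hβ v hv, fun r => ?_⟩
  suffices key : ∀ r, ∀ w : D.Idx → F,
      (∀ m ∈ M0, ((m : Matrix D.Idx D.Idx F) *ᵥ w) (Sum.inr R0.α.rev) = 0) → (N : F) * w (Sum.inr r) = 0 from
    key r v hv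
  refine C.ind _ (fun i w hw => ?_) (fun i r ih w hw => ?_)
  · rcases Mc.wit i with h | ⟨β, hβ, hN⟩
    · rw [long _ h w hw, mul_zero]
    · have h2 := hbar β hβ _ (hcomp w hw _ (h1 (C.p i).rev))
      rw [cartanPart_X, hbar β hβ w hw, zero_add, one_mul, C.pr_rev, C.rev_rev] at h2
      rcases hN with e | e <;> rw [e] at h2 <;> push_cast at h2
      · linear_combination -h2
      · linear_combination h2
  · have := ih _ (hcomp w hw _ (P_mem C h1 i))
    rw [P_mulVec_inr] at this
    rcases C.η_one i (C.w i r) with e | e <;> rw [e] at this <;> simpa using this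

/-- The rationality lemma. -/
theorem rational (hsimple : IsSimpleGroup ↥(D.group F))
    (M : Subgroup (GL D.Idx F)) (hMG : M ≤ D.group F) (h1 : ∀ r : Rt D, C.X F r 1 ∈ M) (σ : F →+* F)
    (hc : ∀ h ∈ M, σ ((h : Matrix D.Idx D.Idx F) (Sum.inr R0.α.rev) (Sum.inr R0.α)) =
      (h : Matrix D.Idx D.Idx F) (Sum.inr R0.α.rev) (Sum.inr R0.α))
    {h : GL D.Idx F} (hh : h ∈ M) : Matrix.GeneralLinearGroup.map σ h = h := by
  classical
  let Ω : AddSubgroup (D.Idx → F) :=
    { carrier := {v | ∀ m ∈ M, σ (((m : Matrix D.Idx D.Idx F) *ᵥ v) (Sum.inr R0.α.rev)) =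
        ((m : Matrix D.Idx D.Idx F) *ᵥ v) (Sum.inr R0.α.rev)}
      zero_mem' := fun m _ => by simp
      add_mem' := fun {a b} ha hb m hm => by
        rw [Matrix.mulVec_add, Pi.add_apply, map_add, ha m hm, hb m hm]
      neg_mem' := fun {a} ha m hm => by rw [Matrix.mulVec_neg, Pi.neg_apply, map_neg, ha m hm] }
  have hΩM : ∀ m ∈ M, ∀ v ∈ Ω, (m : Matrix D.Idx D.Idx F) *ᵥ v ∈ Ω := fun m hm v hv m' hm' => by
    rw [Matrix.mulVec_mulVec, ← Units.val_mul]; exact hv _ (mul_mem hm' hm)
  let e : D.Idx → (D.Idx → F) := fun a => Pi.single a 1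
  have hα : e (Sum.inr R0.α) ∈ Ω := fun m hm => by
    simp only [e, Matrix.mulVec_single_one, Matrix.col_apply]
    exact hc m hm
  have hW : ∀ (r : Rt D) (L : List (Fin D.rank)), e (Sum.inr r) ∈ Ω → e (Sum.inr (C.pprod L r)) ∈ Ω := by
    intro r L hr
    induction L with
    | nil => exact hr
    | cons i L ih =>
      have := hΩM _ (P_mem C h1 i) _ ih
      obtain ⟨χ, -, -, e'⟩ : Track C (C.P F i) (C.pprod L r) (C.w i (C.pprod L r)) := track_P C i _
      rw [C.pprod_cons, Equiv.Perm.mul_apply, C.sref_apply]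
      rcases C.η_one i (C.pprod L r) with h | h
      · convert this using 1
        funext a
        rw [P_col, h]; simp [e, Pi.single_apply]
      · have := neg_mem this
        convert this using 1
        funext a
        rw [Pi.neg_apply, P_col, h]; simp [e, Pi.single_apply, neg_ite]
  have hlong : ∀ r, IsLong D r → e (Sum.inr r) ∈ Ω := fun r hr => by
    obtain ⟨L, rfl⟩ := long_trans R0 hr
    exact hW _ L hα
  let coV : Rt D → (D.Idx → F) := fun r => Sum.elim (fun i => (co D r i : F)) (fun _ => 0)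
  have hco : ∀ r, e (Sum.inr r) ∈ Ω → e (Sum.inr r.rev) ∈ Ω → coV r ∈ Ω := by
    intro r hr hr'
    have := sub_mem (sub_mem (hΩM _ (h1 r.rev) _ hr) hr) (neg_mem hr')
    have := neg_mem this
    convert this using 1
    funext a
    rcases a with a | a
    · rw [Pi.neg_apply, Pi.sub_apply, Pi.sub_apply, X_mulVec_inl C, C.rev_rev, C.co_rev]
      simp [coV, e]
    · rw [Pi.neg_apply, Pi.sub_apply, Pi.sub_apply, X_mulVec_inr C, C.rev_rev]
      have hz : ∑ s ∈ Finset.univ.erase r, ∑ k ∈ Finset.range 3,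
          (1 : F) ^ (k + 1) * (chM D (k + 1) r.rev s a : F) * e (Sum.inr r) (Sum.inr s) = 0 :=
        Finset.sum_eq_zero fun s hs => Finset.sum_eq_zero fun k _ => by
          simp [e, Finset.ne_of_mem_erase hs]
      rw [hz]
      have hcp : cartanPart r.rev (e (Sum.inr r)) = 0 := by simp [cartanPart, e]
      rw [hcp]
      by_cases h : a = r.rev <;> simp [coV, e, h]
  have hroot : ∀ r, e (Sum.inr r) ∈ Ω := by
    refine C.ind (fun r => e (Sum.inr r) ∈ Ω) (fun i => ?_) (fun i r ih => by simpa [C.sref_apply, C.pprod_cons, C.pprod_nil] using hW r [i] ih)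
    rcases R0.deg i with hl | ⟨L, hL⟩
    · exact hlong _ hl
    · have hα' := hco R0.α (hlong _ R0.long) (hlong _ (isLong_rev R0 R0.long))
      set r := C.pprod L (C.p i)
      have h2 := sub_mem (hΩM _ (h1 r) _ hα') hα'
      have hr : e (Sum.inr r) ∈ Ω := by
        have ev : ((C.X F r 1 : GL D.Idx F) : Matrix D.Idx D.Idx F) *ᵥ coV R0.α - coV R0.α =
            -(pr D R0.α r : F) • e (Sum.inr r) := by
          funext a
          rcases a with a | a
          · rw [Pi.sub_apply, X_mulVec_inl C]; simp [coV, e]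
          · rw [Pi.sub_apply, X_mulVec_inr C]
            have : cartanPart r (coV R0.α) = (pr D R0.α r : F) := by
              simp [cartanPart, coV, pr, mul_comm]
            rw [this]
            by_cases h : a = r <;> simp [coV, e, h]
        rw [ev] at h2
        rcases hL with hh | hh <;> rw [show pr D R0.α r = _ from hh] at h2
        · simpa using neg_mem h2
        · simpa using h2
      obtain ⟨L', hL'⟩ := C.mem_WG_iff.1 (inv_mem (C.pprod_mem_WG L))
      have := hW r L' hr
      rwa [hL', Equiv.Perm.inv_def, show (Equiv.symm (C.pprod L)) r = C.p i from (C.pprod L).symm_apply_apply _] at this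
  have hbasis : ∀ a, e a ∈ Ω := by
    rintro (i | r)
    · have := hco (C.p i) (hroot _) (hroot _)
      convert this using 1
      funext a
      rcases a with a | a
      · simp [coV, e, C.co_p, Pi.single_apply]
      · simp [coV, e]
    · exact hroot r
  -- the differences are small
  set δh := Matrix.GeneralLinearGroup.map σ h with hδ
  let M0 : Subgroup (GL D.Idx F) :=
    { carrier := {m | m ∈ M ∧ Matrix.GeneralLinearGroup.map σ m = m}
      one_mem' := ⟨one_mem M, map_one _⟩
      mul_mem' := fun {a b} ha hb => ⟨mul_mem ha.1 hb.1, by rw [map_mul, ha.2, hb.2]⟩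
      inv_mem' := fun {a} ha => ⟨inv_mem ha.1, by rw [map_inv, ha.2]⟩ }
  have h10 : ∀ r, C.X F r 1 ∈ M0 := fun r => ⟨h1 r, by rw [C.X_map, map_one]⟩
  have hsmall : ∀ a, Small N ((δh : Matrix D.Idx D.Idx F) *ᵥ e a - (h : Matrix D.Idx D.Idx F) *ᵥ e a) := by
    intro a
    refine small_of_functional R0 Mc M0 h10 fun m hm => ?_
    rw [Matrix.mulVec_sub, Pi.sub_apply, Matrix.mulVec_mulVec, Matrix.mulVec_mulVec, sub_eq_zero]
    have hmh := hΩM h hh _ (hbasis a) m hm.1
    rw [Matrix.mulVec_mulVec] at hmh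
    have e2 : ((m : Matrix D.Idx D.Idx F) * (δh : Matrix D.Idx D.Idx F)) =
        ((m : Matrix D.Idx D.Idx F) * (h : Matrix D.Idx D.Idx F)).map σ := by
      conv_lhs => rw [← hm.2]
      rw [Matrix.map_mul]
      rfl
    rw [e2]
    simp only [e, Matrix.mulVec_single_one, Matrix.col_apply, Matrix.map_apply] at hmh ⊢
    exact hmh
  -- the kernel of the action modulo the small vectors
  have hstab := group_le_smallStab (F := F) Mc R0
  let K : Subgroup ↥(D.group F) :=
    { carrier := {g | ∀ v, Small N (((g : GL D.Idx F) : Matrix D.Idx D.Idx F) *ᵥ v - v)}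
      one_mem' := fun v => by simp [Matrix.one_mulVec, Small, cartanPart]
      mul_mem' := fun {a b} ha hb v => by
        rw [Subgroup.coe_mul, Units.val_mul, ← Matrix.mulVec_mulVec]
        set w := ((b : GL D.Idx F) : Matrix D.Idx D.Idx F) *ᵥ v
        rw [show ((a : GL D.Idx F) : Matrix D.Idx D.Idx F) *ᵥ w - v =
          (((a : GL D.Idx F) : Matrix D.Idx D.Idx F) *ᵥ w - w) + (w - v) by abel]
        exact small_add (ha w) (hb v)
      inv_mem' := fun {a} ha v => by
        rw [Subgroup.coe_inv]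
        set w := (((a : GL D.Idx F)⁻¹ : GL D.Idx F) : Matrix D.Idx D.Idx F) *ᵥ v
        have e : ((a : GL D.Idx F) : Matrix D.Idx D.Idx F) *ᵥ w = v := by
          rw [Matrix.mulVec_mulVec, ← Units.val_mul, mul_inv_cancel, Units.val_one, Matrix.one_mulVec]
        have := small_neg (ha w)
        rwa [e, neg_sub] at this }
  have hK : K.Normal := by
    refine ⟨fun g hg x v => ?_⟩
    rw [Subgroup.coe_mul, Subgroup.coe_mul, Subgroup.coe_inv, Units.val_mul, Units.val_mul,
      ← Matrix.mulVec_mulVec, ← Matrix.mulVec_mulVec]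
    set w := (((x : GL D.Idx F)⁻¹ : GL D.Idx F) : Matrix D.Idx D.Idx F) *ᵥ v
    have e : v = ((x : GL D.Idx F) : Matrix D.Idx D.Idx F) *ᵥ w := by
      rw [Matrix.mulVec_mulVec, ← Units.val_mul, mul_inv_cancel, Units.val_one, Matrix.one_mulVec]
    conv => arg 2; arg 2; rw [e]
    rw [← Matrix.mulVec_sub]
    exact (hstab x.2).1 _ (hg w)
  have hδG : h⁻¹ * δh ∈ D.group F :=
    mul_mem (inv_mem (hMG hh)) (ChevFixed.map_group_le C σ ⟨h, hMG hh, rfl⟩)
  have hδK : (⟨h⁻¹ * δh, hδG⟩ : D.group F) ∈ K := by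
    intro v
    show Small N (((h⁻¹ * δh : GL D.Idx F) : Matrix D.Idx D.Idx F) *ᵥ v - v)
    have e1 : ((h⁻¹ * δh : GL D.Idx F) : Matrix D.Idx D.Idx F) *ᵥ v - v =
        ((h⁻¹ : GL D.Idx F) : Matrix D.Idx D.Idx F) *ᵥ
          ((δh : Matrix D.Idx D.Idx F) *ᵥ v - (h : Matrix D.Idx D.Idx F) *ᵥ v) := by
      rw [Matrix.mulVec_sub, Matrix.mulVec_mulVec, Matrix.mulVec_mulVec, ← Units.val_mul, ← Units.val_mul,
        inv_mul_cancel, Units.val_one, Matrix.one_mulVec]
    rw [e1]
    refine (hstab (inv_mem (hMG hh))).1 _ ?_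
    have hlin : (δh : Matrix D.Idx D.Idx F) *ᵥ v - (h : Matrix D.Idx D.Idx F) *ᵥ v =
        ∑ a, v a • ((δh : Matrix D.Idx D.Idx F) *ᵥ e a - (h : Matrix D.Idx D.Idx F) *ᵥ e a) := by
      funext b
      simp [e, Matrix.mulVec, dotProduct, Finset.sum_apply, mul_sub, mul_comm]
    rw [hlin]
    exact small_sum fun a => small_smul (v a) (hsmall a)
  rcases hsimple.eq_bot_or_eq_top_of_normal K hK with hbot | htop
  · rw [hbot, Subgroup.mem_bot] at hδK
    have := congrArg Subtype.val hδK
    rw [Subgroup.coe_one, inv_mul_eq_one] at this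
    exact this.symm
  · exfalso
    have hx : (⟨C.X F R0.α 1, C.X_mem_group R0.α 1⟩ : D.group F) ∈ K := htop ▸ Subgroup.mem_top _
    have := (hx (e (Sum.inr R0.α.rev))).1 R0.α R0.long
    rw [Pi.sub_apply, X_mulVec_inr C, if_pos rfl] at this
    have hz : ∑ s ∈ Finset.univ.erase R0.α.rev, ∑ k ∈ Finset.range 3,
        (1 : F) ^ (k + 1) * (chM D (k + 1) R0.α s R0.α : F) * e (Sum.inr R0.α.rev) (Sum.inr s) = 0 :=
      Finset.sum_eq_zero fun s hs => Finset.sum_eq_zero fun k _ => by
        simp [e, Finset.ne_of_mem_erase hs]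
    rw [hz] at this
    simp [e, cartanPart, (C.ne_rev R0.α).symm] at this
where
  P_col {i : Fin D.rank} {r : Rt D} {a : D.Idx} :
      (((C.P F i : GL D.Idx F) : Matrix D.Idx D.Idx F) *ᵥ Pi.single (Sum.inr r) 1) a =
        if a = Sum.inr (C.w i r) then (C.η i r : F) else 0 := by
    rw [Matrix.mulVec_single_one, C.P_val]
    rcases a with a | a <;> simp [Pm]
  small_add {v w : D.Idx → F} (hv : Small N v) (hw : Small N w) : Small N (v + w) := by
    refine ⟨fun β hβ => by simp [hv.1 β hβ, hw.1 β hβ], fun β hβ => ?_, fun r => ?_⟩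
    · have := hv.2.1 β hβ
      have := hw.2.1 β hβ
      simp only [cartanPart, Pi.add_apply, mul_add, Finset.sum_add_distrib] at *
      simp [*]
    · rw [Pi.add_apply, mul_add, hv.2.2, hw.2.2, add_zero]
  small_smul (c : F) {v : D.Idx → F} (hv : Small N v) : Small N (c • v) := by
    refine ⟨fun β hβ => by simp [hv.1 β hβ], fun β hβ => ?_, fun r => ?_⟩
    · have h := hv.2.1 β hβ
      simp only [cartanPart, Pi.smul_apply, smul_eq_mul] at *
      rw [Finset.sum_congr rfl fun i _ => mul_left_comm _ c _, ← Finset.mul_sum, h, mul_zero]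
    · rw [Pi.smul_apply, smul_eq_mul, mul_left_comm, hv.2.2, mul_zero]
  small_neg {v : D.Idx → F} (hv : Small N v) : Small N (-v) := by
    simpa using small_smul (-1) hv
  small_sum {f : D.Idx → D.Idx → F} (hf : ∀ a, Small N (f a)) : Small N (∑ a, f a) := by
    refine Finset.sum_induction f (Small N) (fun _ _ => small_add) ?_ (fun a _ => hf a)
    simp [Small, cartanPart]

end Main

end Cfsg.Agent.Lib.SubfieldChev49
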